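import Mathlib
import Cfsg.Agent.QZ.Def
import Cfsg.Agent.QT.SQT

/-! No three transvection blocks in 3-rank at most two. -/

set_option autoImplicit false
set_option linter.unusedSectionVars false

namespace Cfsg.Agent.QZ

open Subgroup Cfsg.Agent.PLocal Cfsg.Agent.PLocal.Amb Cfsg.Agent.PLocal.CP Cfsg.Agent.PLocal.JC
open Cfsg.Agent.NG
open scoped commutatorElement

namespace R3

/-- `2 × 2` matrices over `𝔽₃` -/
abbrev Q := ZMod 3 × ZMod 3 × ZMod 3 × ZMod 3

/-- matrix product -/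
def mm (x y : Q) : Q := (x.1 * y.1 + x.2.1 * y.2.2.1, x.1 * y.2.1 + x.2.1 * y.2.2.2,
  x.2.2.1 * y.1 + x.2.2.2 * y.2.2.1, x.2.2.1 * y.2.1 + x.2.2.2 * y.2.2.2)

/-- determinant -/
def dt (x : Q) : ZMod 3 := x.1 * x.2.2.2 - x.2.1 * x.2.2.1

/-- value of a word -/
def ev {M : Type*} (m : M → M → M) (o a b c : M) : List (Fin 3) → M
  | [] => o
  | i :: w => m (if i = 0 then a else if i = 1 then b else c) (ev m o a b c w)

/-- relations in two letters -/
def r2 : List (List (Fin 3) × List (Fin 3)) :=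
  [([0,0,0], []), ([1,1,1], []), ([0,0,0], [1,1,1]), ([0,0,0], [1,1]), ([1,1,1], [0,0]), ([0,1], [])]

/-- relations in three letters -/
def r3 : List (List (Fin 3) × List (Fin 3)) :=
  [([2,0], [1,2]), ([2,0], [0,0,1,2]), ([2,0], [0,1,2]), ([2,0], [1,0,2]), ([2,1], [0,2]),
   ([2,1], [0,0,0,2]), ([2,1], [0,1,2]), ([2,1], [1,0,2]), ([2], []), ([2], [0,0]), ([2], [0]),
   ([2], [0,0,0]), ([2], [1]), ([2], [1,1,1]), ([2], [0,1]), ([2], [1,0])]

/-- one of the relations holds -/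
def Rel {M : Type*} (m : M → M → M) (o a b c : M) (r : List (List (Fin 3) × List (Fin 3))) : Prop :=
  ∃ p ∈ r, ev m o a b c p.1 = ev m o a b c p.2

instance decRel {M : Type*} [DecidableEq M] (m : M → M → M) (o a b c : M)
    (r : List (List (Fin 3) × List (Fin 3))) : Decidable (Rel m o a b c r) := by
  unfold Rel; infer_instance

set_option synthInstance.maxSize 2000 in
theorem rels : ∀ a, dt a = 1 → ∀ b, dt b = 1 → Rel mm (1,0,0,1) a b a r2 ∨ ∀ c, dt c ≠ 0 →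
    Rel mm (1,0,0,1) a b c r3 := by decide +kernel

theorem ev_map {M M' : Type*} {m : M → M → M} {m' : M' → M' → M'} {o : M} {o' : M'} (f : M → M')
    (h1 : f o = o') (h2 : ∀ x y, f (m x y) = m' (f x) (f y)) (a b c : M) (w : List (Fin 3)) :
    f (ev m o a b c w) = ev m' o' (f a) (f b) (f c) w := by
  induction w with
  | nil => exact h1
  | cons i w ih => rw [ev, ev, h2, ih, apply_ite f, apply_ite f]

theorem key {N : Type*} [Group N] (ρ : N →* GL (Fin 2) (ZMod 3)) (χ : N →* (Fin 3 → ℤˣ))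
    (hk : ∀ n, ρ n = 1 → χ n = 1) (hχ : ∀ i, ∃ n, χ n = Pi.mulSingle i (-1)) : False := by
  let q : N → Q := fun n => ((ρ n).1 0 0, (ρ n).1 0 1, (ρ n).1 1 0, (ρ n).1 1 1)
  have q1 : q 1 = (1, 0, 0, 1) := by simp [q]
  have q2 : ∀ x y, q (x * y) = mm (q x) (q y) := fun x y => by
    simp [q, mm, Matrix.mul_apply, Fin.sum_univ_two]
  have q3 : ∀ x y, q x = q y → χ x = χ y := fun x y e => by
    have : ρ x = ρ y := Units.ext (by
      simp only [q, Prod.mk.injEq] at e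
      rw [Matrix.eta_fin_two (ρ x).1, Matrix.eta_fin_two (ρ y).1, e.1, e.2.1, e.2.2.1, e.2.2.2])
    rw [← mul_inv_eq_one, ← map_inv, ← map_mul] at this ⊢
    exact hk _ this
  have tr : ∀ a b c r, Rel mm (1,0,0,1) (q a) (q b) (q c) r → Rel (· * ·) 1 (χ a) (χ b) (χ c) r :=
    fun a b c r ⟨p, hp, e⟩ => ⟨p, hp, by
      rw [← ev_map q q1 q2, ← ev_map q q1 q2] at e
      rw [← ev_map χ (map_one χ) (map_mul χ), ← ev_map χ (map_one χ) (map_mul χ), q3 _ _ e]⟩
  have d2 : ∀ x y, dt (q (x * y)) = dt (q x) * dt (q y) := fun x y => by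
    rw [q2]; simp only [dt, mm]; ring
  have d0 : ∀ x, dt (q x) ≠ 0 := fun x e => by
    have := d2 x x⁻¹
    rw [mul_inv_cancel, q1, e, zero_mul] at this
    exact absurd this (by decide)
  have k : ∀ a b c, dt (q a) = 1 → dt (q b) = 1 →
      Rel (· * ·) 1 (χ a) (χ b) (χ a) r2 ∨ Rel (· * ·) 1 (χ a) (χ b) (χ c) r3 := fun a b c ha hb =>
    (rels _ ha _ hb).imp (tr _ _ _ _) fun l => tr _ _ _ _ (l _ (d0 c))
  have d1 : ∀ x, dt (q x) = 1 ∨ dt (q x) = -1 := fun x =>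
    (by decide : ∀ d : ZMod 3, d ≠ 0 → d = 1 ∨ d = -1) _ (d0 x)
  have d3 : ∀ x y, dt (q x) = -1 → dt (q y) = -1 → dt (q (x * y)) = 1 := fun x y hx hy => by
    rw [d2, hx, hy]; decide
  obtain ⟨a, ha⟩ := hχ 0
  obtain ⟨b, hb⟩ := hχ 1
  obtain ⟨c, hc⟩ := hχ 2
  rcases d1 a with a1 | a1 <;> rcases d1 b with b1 | b1 <;> rcases d1 c with c1 | c1
  all_goals first
    | refine absurd (k a b c a1 b1) ?_
    | refine absurd (k a c b a1 c1) ?_
    | refine absurd (k b c a b1 c1) ?_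
    | refine absurd (k a _ b a1 (d3 _ _ b1 c1)) ?_
    | refine absurd (k b _ a b1 (d3 _ _ a1 c1)) ?_
    | refine absurd (k c _ a c1 (d3 _ _ a1 b1)) ?_
    | refine absurd (k _ _ a (d3 _ _ a1 b1) (d3 _ _ a1 c1)) ?_
  all_goals
    simp only [map_mul, ha, hb, hc]
    decide +kernel

/-- A group of 3-rank at most two has no section `S₃ × S₃ × S₃`. -/
theorem sec {X H : Type*} [Group X] [Finite X] [Group H] [Finite H] (hr : PRankLE 3 2 X) (π : X →* H)
    (k t : Fin 3 → X) (h3 : ∀ i, π (k i) ^ 3 = 1) (h1 : ∀ i, π (k i) ≠ 1)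
    (hc : ∀ i j, Commute (π (k i)) (π (k j)))
    (hi : ∀ i, π (t i) * π (k i) * (π (t i))⁻¹ = (π (k i))⁻¹)
    (hj : ∀ i j, i ≠ j → Commute (π (t i)) (π (k j))) : False := by
  have : Fact (Nat.Prime 3) := ⟨by decide⟩
  let E := closure (Set.range fun i => π (k i))
  have kE : ∀ i, π (k i) ∈ E := fun i => subset_closure ⟨i, rfl⟩
  have c1 : ∀ i, E ≤ centralizer {π (k i)} := fun i => (closure_le _).2 (by
    rintro _ ⟨j, rfl⟩; exact mem_centralizer_singleton_iff.2 (hc j i))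
  have c2 : ∀ x ∈ E, E ≤ centralizer {x} := fun x hx => (closure_le _).2 (by
    rintro _ ⟨j, rfl⟩
    exact mem_centralizer_singleton_iff.2 (mem_centralizer_singleton_iff.1 (c1 j hx)).symm)
  have c3 : ∀ x ∈ E, x ^ 3 = 1 := fun x hx => by
    induction hx using closure_induction with
    | mem x hx => obtain ⟨j, rfl⟩ := hx; exact h3 j
    | one => exact one_pow 3
    | mul x y hx hy a b =>
      rw [Commute.mul_pow (mem_centralizer_singleton_iff.1 (c2 y hy hx)), a, b, mul_one]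
    | inv x _ a => rw [inv_pow, a, inv_one]
  have c4 : ∀ i, π (t i) ∈ 𝐍[E] := fun i => mem_normalizer_of_cj_le (by
    rw [map_le_iff_le_comap, closure_le]
    rintro _ ⟨j, rfl⟩
    change π (t i) * π (k j) * (π (t i))⁻¹ ∈ E
    by_cases e : i = j
    · rw [← e, hi]; exact inv_mem (kE i)
    · rw [(hj i j e).eq, mul_inv_cancel_right]; exact kE j)
  obtain ⟨P, hP⟩ := exists_isSyl 3 (E.comap π)
  have kP : ∀ i, π (k i) ∈ P.map π := fun i => (hP.map π).max _
    (fun x => ⟨1, Subtype.ext (c3 _ (map_comap_le _ _ x.2))⟩) (map_mono hP.le) le_rfl ⟨k i, kE i, rfl⟩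
  obtain ⟨ρ, hρ⟩ := QT.exists_rho (p := 3) (by decide) (FT.R2.pRankLE_subgroup hr 𝐍[P])
  let Y : Subgroup (𝐍[P] × (Fin 3 → ℤˣ)) :=
    { carrier := {y | ∀ i, π y.1 * π (k i) * (π y.1)⁻¹ = π (k i) ^ (y.2 i : ℤ)}
      one_mem' := fun i => by simp
      mul_mem' := fun {x y} hx hy i => by
        simp only [Prod.fst_mul, Prod.snd_mul, coe_mul, map_mul, Pi.mul_apply, Units.val_mul]
        rw [zpow_mul, ← hx i, conj_zpow, ← hy i]; group
      inv_mem' := fun {x} hx i => by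
        simp only [Prod.fst_inv, Prod.snd_inv, coe_inv, map_inv, Pi.inv_apply, Int.units_inv_eq_self]
        have := congrArg (· ^ (x.2 i : ℤ)) (hx i)
        simp only [conj_zpow, ← zpow_mul, Int.units_coe_mul_self, zpow_one] at this
        conv_lhs => rw [← this]
        group }
  refine key ((ρ.comp (MonoidHom.fst _ _)).comp Y.subtype) ((MonoidHom.snd _ _).comp Y.subtype)
    (fun n hn => funext fun i => ?_) fun i => ?_
  · obtain ⟨m, hm⟩ := Amb.exists_pow_coprime (p := 3) n.1.1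
    obtain ⟨x, hx, ex⟩ := kP i
    have c := congrArg (fun z : 𝐍[P] => π z) (hρ _ (pow_mem hn _) hm ⟨x, le_normalizer hx⟩
      (le_pCore' (R := P.subgroupOf _) (Amb.isPGroup_subgroupOf hP.pgrp _) hx))
    have e := (n ^ 3 ^ m).2 i
    simp only [coe_mul, map_mul, ex] at c
    rw [coe_pow, Prod.pow_fst, ← c, mul_inv_cancel_right, Prod.pow_snd, Pi.pow_apply] at e
    rcases Int.units_eq_one_or (n.1.2 i) with l | l
    · exact l
    · rw [l, Odd.neg_one_pow (Odd.pow (by decide)), Units.val_neg, Units.val_one, zpow_neg_one] at e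
      refine absurd ?_ (h1 i)
      have := h3 i
      rwa [pow_succ, pow_two, eq_inv_iff_mul_eq_one.1 e, one_mul] at this
  · obtain ⟨x, hx, f, hf, e⟩ := hP.frattini' (le_normalizer_comap π (c4 i))
    refine ⟨⟨(⟨x, hx⟩, Pi.mulSingle i (-1)), fun j => ?_⟩, rfl⟩
    have e1 : π x * π (k j) * (π x)⁻¹ = π (t i) * π (k j) * (π (t i))⁻¹ := by
      rw [e, map_mul, mul_assoc (π x) (π f), mem_centralizer_singleton_iff.1 (c1 j hf)]; group
    refine e1.trans ?_
    by_cases l : i = j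
    · subst l; simp [hi]
    · simp [Pi.mulSingle_eq_of_ne' l, (hj i j l).eq]

end R3

variable {G : Type*} [Group G] [Finite G]

/-- No subgroup of `GL₂(3)` maps onto `2³`. -/
theorem not_onto_eight (R : Subgroup (GL (Fin 2) (ZMod 3))) (χ : R →* Multiplicative (Fin 3 → ZMod 2))
    (hχ : Function.Surjective χ) : False := by
  let s : Multiplicative (Fin 3 → ZMod 2) →* (Fin 3 → ℤˣ) :=
    MonoidHom.mk' (fun v i => if v.toAdd i = 0 then 1 else -1) (by decide)
  refine R3.key R.subtype (s.comp χ) (fun n hn => by rw [show n = 1 from Subtype.ext hn, map_one]) fun i => ?_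
  obtain ⟨n, hn⟩ := hχ (Multiplicative.ofAdd (Pi.single i 1))
  refine ⟨n, (congrArg s hn).trans ?_⟩
  clear hn
  revert i
  decide

theorem R3.tv_rho {L U U₀ K K' : Subgroup G} {t k : G} (h : Mod L U U₀) (ht : Tv L U U₀ K t)
    (hK : Blk L U U₀ K') (hne : K ≠ K') (hk : k ∈ K') : h.ρ t * h.ρ k = h.ρ k * h.ρ t := by
  have tN := h.L_le ht.mem
  have f := ht.fix
  rw [h.fx_eq (h.blkN ht.blk), h.fx_eq (zpowers_le.2 tN), h.up_le_up, h.FX_zpowers tN] at f
  have f' : ∀ w ∈ h.BW K', h.ρ t w = w := fun w hw =>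
    Lin.mem_fix.1 (f (h.blk_ne₀ hK ht.blk hne.symm hw))
  refine Lin.eq_of_forall_compl (h.blk_compl' hK).1 (fun w hw => ?_) fun w hw => ?_
  · rw [Module.End.mul_apply, Module.End.mul_apply, f' w hw,
      f' _ (h.ρ_mem_BW (h.blkN hK) (h.blkN hK hk) (le_normalizer hk) hw)]
  · rw [Module.End.mul_apply, Module.End.mul_apply, h.mem_FX.1 hw k hk, h.mem_FX.1
      (h.ρ_mem_FX (h.blkN hK) tN ((h.tv_facts ht).2.2.2.2 K' hK).1 hw) k hk]

/-- **No three transvection blocks in 3-rank ≤ 2.** -/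
theorem r3 {L U K₁ K₂ K₃ : Subgroup G} {t₁ t₂ t₃ : G} (h : Mod L U ⊥) (hr : PRankLE 3 2 L)
    (h₁ : Tv L U ⊥ K₁ t₁) (h₂ : Tv L U ⊥ K₂ t₂) (h₃ : Tv L U ⊥ K₃ t₃) :
    K₁ = K₂ ∨ K₁ = K₃ ∨ K₂ = K₃ := by
  by_contra hn
  simp only [not_or] at hn
  obtain ⟨n1, n2, n3⟩ := hn
  have hT : ∀ i, Tv L U ⊥ (![K₁, K₂, K₃] i) (![t₁, t₂, t₃] i) := fun i => by
    fin_cases i; exacts [h₁, h₂, h₃]
  have hne : ∀ i j, i ≠ j → ![K₁, K₂, K₃] i ≠ ![K₁, K₂, K₃] j := fun i j => by
    fin_cases i <;> fin_cases j <;> simp [n1, n2, n3, Ne.symm n1, Ne.symm n2, Ne.symm n3]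
  generalize ![K₁, K₂, K₃] = K, ![t₁, t₂, t₃] = t at hT hne
  choose k k1 _ k2 k3 _ using fun i => h.blk_gen (hT i).blk
  have kL := fun i => (hT i).blk.le (k1 i)
  have : Finite (Module.End ℤ h.W) := DFunLike.finite _
  have one : ∀ x : L, h.hom h.L_le x = 1 ↔ x.1 ∈ secCent U ⊥ := fun x => by
    rw [← h.ρ_eq_one (h.L_le x.2), ← h.coe_hom h.L_le, Units.val_eq_one]
  refine R3.sec hr (h.hom h.L_le) (fun i => ⟨k i, kL i⟩) (fun i => ⟨t i, (hT i).mem⟩)
    (fun i => by rw [← map_pow, one]; exact k3 i) (fun i e => k2 i ((one _).1 e)) (fun i j => ?_)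
    (fun i => ?_) fun i j e => Units.ext (R3.tv_rho h (hT i) (hT j).blk (hne i j e) (k1 j))
  · rw [← commutatorElement_eq_one_iff_commute, ← map_commutatorElement, one]
    exact h.blk_comm (hT i).blk (hT j).blk (commutator_mem_commutator (k1 i) (k1 j))
  · rw [eq_inv_iff_mul_eq_one, ← map_inv, ← map_mul, ← map_mul, ← map_mul, one]
    exact (hT i).inv _ (k1 i)

end Cfsg.Agent.QZ
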