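import Mathlib
import Cfsg.Agent.QZ.Blk
import Cfsg.Agent.QZ.R3

/-! One side of the amalgam with a transvection block not contained in the other side. -/

set_option autoImplicit false
set_option linter.unusedSectionVars false

namespace Cfsg.Agent.QZ

open Subgroup Cfsg.Agent.PLocal Cfsg.Agent.PLocal.Amb Cfsg.Agent.PLocal.CP Cfsg.Agent.PLocal.JC
open Cfsg.Agent.NG
open scoped commutatorElement

variable {G : Type*} [Group G] [Finite G] {T A B K : Subgroup G} {t r : G}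

theorem Am.bcj (h : Am T A B) (hK : BK A K) {g : G} (hg : g ∈ A) :
    BK A cj(g, K) ∧ WW A cj(g, K) = cj(g, WW A K) :=
  ⟨(h.mod.blk_cj hK hg).1, (h.mod.blk_cj hK hg).2.1⟩

theorem TV.cj_mem (h : TV A K t) {g : G} (hg : g ∈ A) : TV A cj(g, K) (g * t * g⁻¹) := by
  have := h.cj g
  rwa [cj_of_mem hg] at this

theorem Am.CD (h : Am T A B) : A ⊓ 𝐂[ZZ A] ≤ B := inf_le_right.trans h.C_leB

/-- the normal closure of a line lies in `[U, bN]` and is fixed by the non-conjugate blocks -/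
theorem ncl_W {L U K X : Subgroup G} (h : Mod L U ⊥) (hK : Blk L U ⊥ K) (hX : X ≤ L) {u : G}
    (hu : u ∈ ncl (bW U ⊥ K) X) (hf : ∀ g ∈ X, u ∈ fx U ⊥ cj(g, K)) : u = 1 := by
  refine eq_one_of_fx h ((ncl_le_iff.2 fun g hg => ?_ : _ ≤ bW U ⊥ (bN L U ⊥)) hu) fun J hJ => ?_
  · rw [← (h.blk_cj hK (hX hg)).2.1]; exact W_le_bN h (h.blk_cj hK (hX hg)).1
  · by_cases e : ∃ g ∈ X, cj(g, K) = J
    · obtain ⟨g, hg, rfl⟩ := e; exact hf g hg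
    · refine (ncl_le_iff.2 fun g hg => ?_ : _ ≤ fx U ⊥ J) hu
      rw [← (h.blk_cj hK (hX hg)).2.1]
      exact (h.blk_ne hJ (h.blk_cj hK (hX hg)).1 fun e' => e ⟨g, hg, e'.symm⟩).1

theorem Am.Z_not_le (h : Am T A B) (hK : BK A K) : ¬ K ≤ 𝐂[ΩZ[2, T]] := fun hle => by
  have hU : ncl (WW A K) T ≤ ZZ A := ncl_le (W_le h.mod hK) (h.TA.trans h.normZ)
  obtain ⟨p, hp, p1, -⟩ := W_ex h.mod hK 1
  obtain ⟨z, hz, z1⟩ := exists_ne_one (Amb.inf_centralizer_ne_bot h.syl.pgrp (h.red.isPGroup.to_le hU)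
    (le_normalizer_ncl _ _) fun e => p1 (mem_bot.1 (e ▸ le_ncl _ _ hp)))
  have hZ : z ∈ ΩZ[2, T] := mem_omegaZ.2 ⟨h.ZZ_le (hU hz.1), hz.2, by rw [pow_two, msq h.mod (hU hz.1)]⟩
  refine z1 (ncl_W h.mod hK h.TA hz.1 fun g hg => mem_fx.2 ⟨hU hz.1, fun a ha => ?_⟩)
  obtain ⟨k, hk, rfl⟩ := mem_cj_iff_exists.1 ha
  have := comm_cj (mem_C.1 (hle hk) z hZ).symm g
  rwa [comm_iff.1 (mem_C.1 hz.2 g hg).symm] at this

theorem tv_gen {L U K : Subgroup G} {t x : G} (h : Mod L U ⊥) (ht : Tv L U ⊥ K t) (hx : x ∈ K) (hx' : x ∉ 𝐂[U]) :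
    x * t * x⁻¹ * t⁻¹ ∈ K ∧ x * t * x⁻¹ * t⁻¹ ∉ 𝐂[U] ∧ x * t * x⁻¹ * t⁻¹ * x ∈ 𝐂[U] := by
  have h1 : x * t * x⁻¹ * t⁻¹ ∈ K := by
    simpa only [mul_assoc] using mul_mem hx (Amb.conj_mem_of_mem_normalizer ht.norm (inv_mem hx))
  have h2 := Amb.conj_mem_of_mem_normalizer (normC h (ht.blk.le hx)) (tv_inv h ht (inv_mem hx))
  have h3 : x * t * x⁻¹ * t⁻¹ * x ∈ 𝐂[U] := by
    have := mul_mem h2 (cube_mem h ht.blk hx)
    rwa [show x * (t * x⁻¹ * t⁻¹ * x⁻¹) * x⁻¹ * x ^ 3 = x * t * x⁻¹ * t⁻¹ * x by group] at this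
  exact ⟨h1, fun e => hx' ((Subgroup.mul_mem_cancel_left _ e).1 h3), h3⟩

theorem Am.not_le (h : Am T A B) (ht : TV A K t) (h1 : t ∈ ZZ B ∨ t ∈ 𝐂[ZZ B]) : ¬ K ≤ B := fun hle => by
  obtain ⟨x, hx, hx'⟩ := Blk_ex ht.blk
  obtain ⟨y1, y2, -⟩ := tv_gen h.mod ht hx hx'
  rcases h1 with h1 | h1
  · have := mul_mem (Amb.conj_mem_of_mem_normalizer (h.symm.normZ (hle hx)) h1) (inv_mem h1)
    exact y2 (mem_of_sq h.mod ht.blk y1 inf_le_right (by rw [msq h.symm.mod this]; exact one_mem _))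
  · have := mul_mem (Amb.conj_mem_of_mem_normalizer (normC h.symm.mod (hle hx)) h1) (inv_mem h1)
    exact h.Z_not_le ht.blk (Blk_or ht.blk (inf_le_right.trans (centralizer_anti h.Z_le)) y1 y2
      (centralizer_anti h.symm.Z_le this))

/-- a transvection in `B` on a block not in `B`, with its point `r` -/
structure FF (T A B K : Subgroup G) (t r : G) : Prop where
  am : Am T A B
  tv : TV A K t
  tB : t ∈ B
  nle : ¬ K ≤ B
  mem : r ∈ WW A K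
  ne : r ≠ 1
  com : Commute t r

namespace FF

variable (h : FF T A B K t r)
include h

theorem mod : Mod A (ZZ A) ⊥ := h.am.mod
theorem blk : BK A K := h.tv.blk
theorem rZ : r ∈ ZZ A := W_le h.mod h.blk h.mem

theorem cj (g : G) : FF cj(g, T) cj(g, A) cj(g, B) cj(g, K) (g * t * g⁻¹) (g * r * g⁻¹) :=
  ⟨h.am.cj g, h.tv.cj g, conj_mem_cj g h.tB, fun e => h.nle (cj_le_cj_iff.1 e),
    by rw [WW_cj]; exact conj_mem_cj g h.mem, cj_ne_one h.ne, comm_cj h.com g⟩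

theorem change {T' : Subgroup G} (h' : Am T' A B) : FF T' A B K t r :=
  ⟨h', h.tv, h.tB, h.nle, h.mem, h.ne, h.com⟩

theorem cj_mem {d : G} (hA : d ∈ A) (hB : d ∈ B) : FF T A B cj(d, K) (d * t * d⁻¹) (d * r * d⁻¹) := by
  have := h.cj d
  rw [cj_of_mem hA, cj_of_mem hB] at this
  exact this.change h.am

theorem K_B {k : G} (hk : k ∈ K) (hB : k ∈ B) : k ∈ 𝐂[ZZ A] := by
  by_contra e
  exact h.nle (Blk_or h.blk h.am.CD hk e hB)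

/-- the point is fixed by `N_{A ⊓ B}(K)` -/
theorem fixpt {d : G} (hA : d ∈ A) (hB : d ∈ B) (hn : d ∈ 𝐍[K]) : Commute d r := by
  have h' := h.cj_mem hA hB
  rw [cj_eq_iff.2 hn] at h'
  obtain ⟨k, hk, e⟩ := h.mod.blk_trans h.blk h'.mem (by simpa using h'.ne) h.mem (by simpa using h.ne)
  have e : k * (d * r * d⁻¹) * k⁻¹ = r := mul_inv_eq_one.1 (mem_bot.1 e)
  set t' := d * t * d⁻¹
  have t2 := h'.tv.cj_mem (h.blk.le hk)
  rw [cj_of_mem hk] at t2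
  have c2 : Commute (k * t' * k⁻¹) r := e ▸ comm_cj h'.com k
  have n : ∀ {s : G}, TV A K s → ¬ ∀ w ∈ WW A K, Commute s w := fun hs a => by
    obtain ⟨w, hw, c⟩ := tv_act h.mod hs; exact c (a w hw)
  have h1 : t * (k * t' * k⁻¹) ∈ 𝐂[ZZ A] := cent_of h.mod h.blk (mul_cent h.mod h.blk (tv_normW h.mod h.tv)
    (tv_normW h.mod t2) h.mem h.ne h.com c2 (n h.tv) (n t2))
    fun w hw => (tv_fix h.mod h.tv hw).mul_left (tv_fix h.mod t2 hw)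
  have h2 := mul_mem (inv_mem (h.am.C_leB (tv_inv h.mod h'.tv (inv_mem hk))))
    (mul_mem (mul_mem h'.tB (inv_mem (mul_mem (inv_mem h.tB) (h.am.C_leB h1)))) (one_mem B))
  have h3 : k * k ∈ B := by
    have := mul_mem (mul_mem (mul_mem (inv_mem h.tB) (h.am.C_leB h1)) (inv_mem h'.tB))
      (inv_mem (h.am.C_leB (Amb.conj_mem_of_mem_normalizer (normC h.mod (h.blk.le hk))
        (tv_inv h.mod h'.tv (inv_mem hk)))))
    have := inv_mem this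
    rwa [show (t⁻¹ * (t * (k * t' * k⁻¹)) * t'⁻¹ * (k * (t' * k⁻¹ * t'⁻¹ * k⁻¹) * k⁻¹)⁻¹)⁻¹ =
      k * t' * k⁻¹ * t'⁻¹ * (k * k)⁻¹ * (k * t' * k⁻¹ * t'⁻¹)⁻¹ by group,
      B.mul_mem_cancel_right (inv_mem ?_), B.mul_mem_cancel_left ?_, inv_mem_iff] at this <;>
    simpa only [mul_assoc, inv_mul_cancel_left] using
      mul_mem (mul_mem (inv_mem h.tB) (h.am.C_leB h1)) (inv_mem h'.tB)
  have h4 := h.K_B hk (mem_of_sq h.mod h.blk hk h.am.CD h3)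
  rw [comm_iff.1 (mem_C.1 h4 _ h'.rZ)] at e
  exact comm_iff.2 e

theorem sup_eq : K ⊔ A ⊓ B = A :=
  h.am.eq_of le_sup_right (sup_le h.blk.le inf_le_left) fun e => h.nle (le_sup_left.trans e)

theorem dec {g : G} (hg : g ∈ A) : ∃ d ∈ A ⊓ B, ∃ n ∈ bN A (ZZ A) ⊥, g = d * n := by
  refine (mem_sup_of_le_normalizer_right (inf_le_left.trans h.mod.bN_norm.2)).1 ?_
  rw [← h.sup_eq, sup_comm] at hg
  exact sup_le_sup_left (h.mod.bN_norm_blk h.blk).1 _ hg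

theorem orbit {g : G} (hg : g ∈ A) : ∃ d ∈ A ⊓ B, cj(g, K) = cj(d, K) := by
  obtain ⟨d, hd, n, hn, rfl⟩ := h.dec hg
  exact ⟨d, hd, by rw [cj_mul, cj_eq_iff.2 ((h.mod.bN_norm_blk h.blk).2.1 hn)]⟩

theorem two {g g' : G} (hg : g ∈ A) (hg' : g' ∈ A) : K = cj(g, K) ∨ K = cj(g', K) ∨ cj(g, K) = cj(g', K) :=
  r3 h.mod h.am.rankA h.tv (h.tv.cj_mem hg) (h.tv.cj_mem hg')

theorem mul_norm {g g' : G} (hg : g ∈ A) (hg' : g' ∈ A) (hn : g ∉ 𝐍[K]) (hn' : g' ∉ 𝐍[K]) : g * g' ∈ 𝐍[K] := by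
  rcases h.two (inv_mem hg) hg' with e | e | e
  · exact absurd (inv_mem_iff.1 (cj_eq_iff.1 e.symm)) hn
  · exact absurd (cj_eq_iff.1 e.symm) hn'
  · rw [← cj_eq_iff, cj_mul, ← e, cj_cj_inv]

theorem sq_norm {g : G} (hg : g ∈ A) : g * g ∈ 𝐍[K] := by
  by_cases e : g ∈ 𝐍[K]
  exacts [mul_mem e e, h.mul_norm hg hg e e]

theorem sq_cent {d : G} (hA : d ∈ A) (hB : d ∈ B) (hn : d ∈ 𝐍[K]) : d * d ∈ 𝐂[WW A K] := by
  by_cases e : ∀ w ∈ WW A K, Commute d w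
  · exact mul_mem (mem_C.2 e) (mem_C.2 e)
  · have := normW h.mod h.blk hA hn
    have c := h.fixpt hA hB hn
    exact mem_C.2 (mul_cent h.mod h.blk this this h.mem h.ne c c e e)

theorem res_le : 𝐎[2, A ⊓ B] ≤ 𝐂[ncl (WW A K) A] := by
  have h1 : 𝐎[2, A ⊓ B] ≤ 𝐂[WW A K] := pRes_le_of_pow fun g hg => ⟨2, by
    have := h.sq_cent (mul_mem hg.1 hg.1) (mul_mem hg.2 hg.2) (h.sq_norm hg.1)
    rwa [show g * g * (g * g) = g ^ 2 ^ 2 by rw [show 2 ^ 2 = 1 + 1 + (1 + 1) by norm_num, pow_add, pow_add, pow_one]] at this⟩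
  refine le_centralizer_iff.1 (ncl_le_iff.2 fun g hg => le_centralizer_iff.1 ?_)
  obtain ⟨d, hd, e⟩ := h.orbit hg
  rw [← (h.am.bcj h.blk hg).2, e, (h.am.bcj h.blk hd.1).2, centralizer_cj,
    ← cj_eq_iff.2 (le_normalizer_pRes 2 _ hd)]
  exact cj_mono d h1

theorem normY : A ≤ 𝐍[A ⊓ 𝐂[ncl (WW A K) A]] :=
  Amb.le_normalizer_inf le_normalizer (Amb.le_normalizer_centralizer (le_normalizer_ncl _ _))

theorem Y_le : A ⊓ 𝐂[ncl (WW A K) A] ≤ B := by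
  by_contra hn
  have e := h.am.eq_of (X := A ⊓ 𝐂[ncl (WW A K) A] ⊔ A ⊓ B) le_sup_right (sup_le inf_le_left inf_le_left)
    fun e => hn (le_sup_left.trans e)
  obtain ⟨k, hk, hk'⟩ := Blk_ex h.blk
  obtain ⟨y, hy, d, hd, rfl⟩ := (mem_sup_of_le_normalizer_left (inf_le_left.trans h.normY)).1 (e.ge (h.blk.le hk))
  have h1 := Amb.conj_mem_of_mem_normalizer (K_normW h.mod h.blk hk) h.mem
  have h2 : d * r * d⁻¹ = y * d * r * (y * d)⁻¹ := by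
    rw [← comm_iff.1 (mem_C.1 hy.2 _ (le_ncl _ _ h1)).inv_left]; group
  have h3 := h.fixpt hd.1 hd.2 (h.mod.mem_normalizer_blk h.blk hd.1 h.mem (by simpa using h.ne) (h2 ▸ h1)).1
  exact hk' (K_fix h.mod h.blk hk h.mem h.ne (comm_iff.2 (h2.symm.trans (comm_iff.1 h3))))

theorem norm_res : A ≤ 𝐍[𝐎[2, A ⊓ B]] := by
  rw [← pRes_eq_of_le (le_inf ((pRes_le 2 _).trans inf_le_left) h.res_le) (le_inf inf_le_left h.Y_le)]
  exact h.normY.trans (normalizer_le_normalizer_pRes 2 _)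

theorem ncl_le : ncl (WW A K) A ≤ ZZ A := CP.ncl_le (W_le h.mod h.blk) h.am.normZ

theorem irr {E : Subgroup G} (h1 : E ≤ ncl (WW A K) A) (h2 : A ≤ 𝐍[E]) : E = ⊥ ∨ WW A K ≤ E := by
  refine (h.mod.blk_inv h.blk bot_le (h1.trans h.ncl_le) (h.blk.le.trans h2)).imp_left fun e => ?_
  refine eq_bot_iff.2 fun u hu => ncl_W h.mod h.blk le_rfl (h1 hu) fun g hg => ?_
  rw [(h.mod.blk_cj h.blk hg).2.2]
  exact cj_mono g e ((cj_eq_iff.2 (h2 hg)).ge hu)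

theorem uniq {T' : Subgroup G} {t' r' : G} (h' : FF T' A B K t' r') : r = r' :=
  (tv_uniq h.mod h'.tv h'.mem h'.ne h'.com h.mem (h.fixpt h'.tv.mem h'.tB h'.tv.norm)).resolve_left h.ne

theorem kill₁ {n : G} (hA : n ∈ A) (hB : n ∈ B) (hn : n ∈ 𝐍[K]) :
    ∃ s ∈ zpowers t, ∀ w ∈ WW A K, Commute (n * s) w := by
  by_cases e : ∀ w ∈ WW A K, Commute n w
  · exact ⟨1, one_mem _, by simpa using e⟩
  · refine ⟨t, mem_zpowers t, mul_cent h.mod h.blk (normW h.mod h.blk hA hn) (tv_normW h.mod h.tv) h.mem h.ne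
      (h.fixpt hA hB hn) h.com e fun a => ?_⟩
    obtain ⟨w, hw, c⟩ := tv_act h.mod h.tv
    exact c (a w hw)

theorem kill {n : G} (hA : n ∈ A) (hB : n ∈ B) (hn : ∀ g ∈ A, n ∈ 𝐍[cj(g, K)]) :
    ∃ s ∈ ncl (zpowers t) (A ⊓ B), n * s ∈ 𝐂[ncl (WW A K) A] := by
  obtain ⟨s, hs, c⟩ := h.kill₁ hA hB (by simpa only [cj_one] using hn 1 (one_mem _))
  have key : ∀ x : G, (∀ g ∈ A, ∀ w ∈ WW A cj(g, K), Commute x w) → x ∈ 𝐂[ncl (WW A K) A] := fun x hx => by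
    have : ncl (WW A K) A ≤ 𝐂₁[x] := ncl_le_iff.2 fun g hg w hw =>
      mem_C₁.2 (hx g hg w (by rwa [(h.am.bcj h.blk hg).2])).symm
    exact mem_C.2 fun w hw => (mem_C₁.1 (this hw)).symm
  by_cases e : ∀ g ∈ A, cj(g, K) = K
  · exact ⟨s, le_ncl _ _ hs, key _ fun g hg => by rwa [e g hg]⟩
  push Not at e
  obtain ⟨g, hg, e⟩ := e
  obtain ⟨d, hd, e'⟩ := h.orbit hg
  have h' := h.cj_mem hd.1 hd.2
  rw [← e'] at h'
  have hsA : zpowers t ≤ A ⊓ B ⊓ 𝐍[cj(g, K)] :=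
    zpowers_le.2 ⟨⟨h.tv.mem, h.tB⟩, ((h.mod.tv_facts h.tv).2.2.2.2 _ h'.blk).1⟩
  obtain ⟨s', hs', c'⟩ := h'.kill₁ (mul_mem hA (hsA hs).1.1) (mul_mem hB (hsA hs).1.2) (mul_mem (hn g hg) (hsA hs).2)
  refine ⟨s * s', mul_mem (le_ncl _ _ hs) (cj_le_ncl _ hd (by rwa [cj_zpowers'])), key _ fun f hf => ?_⟩
  rw [← mul_assoc]
  have c2 : ∀ w ∈ WW A K, Commute (n * s * s') w := fun w hw => (c w hw).mul_left (mem_C₁.1
    ((zpowers_le.2 (mem_C₁.2 (tv_comm h.mod h'.tv h.blk e hw)) : _ ≤ 𝐂₁[w]) hs'))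
  rcases h.two hg hf with a | a | a
  · exact absurd a.symm e
  · rwa [← a]
  · rwa [← a]

variable (h2 : IsPGroup 2 ↥(A ⊓ B))
include h2

theorem all_blk {J : Subgroup G} (hJ : BK A J) : ∃ d ∈ A ⊓ B, cj(d, K) = J := by
  by_contra! k
  obtain ⟨j, hj, hj'⟩ := Blk_ex hJ
  have h1 : ncl (WW A K) A ≤ 𝐂₁[j] := ncl_le_iff.2 fun g hg w hw => by
    obtain ⟨d, hd, e⟩ := h.orbit hg
    rw [← (h.am.bcj h.blk hg).2, e] at hw
    exact mem_C₁.2 (K_comm h.mod hJ (h.am.bcj h.blk hd.1).1 (k d hd).symm hj hw).symm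
  have h3 := h.Y_le ⟨hJ.le hj, mem_C.2 fun w hw => (mem_C₁.1 (h1 hw)).symm⟩
  obtain ⟨n, hn⟩ := Amb.isPGroup_iff.1 h2 j ⟨hJ.le hj, h3⟩
  exact hj' (mem_of_pow_mem_of_coprime (cube_mem h.mod hJ hj)
    (Nat.Coprime.coprime_dvd_left (orderOf_dvd_of_pow_eq_one hn) (Nat.Coprime.pow_left _ (by norm_num))))

theorem ex {J : Subgroup G} (hJ : BK A J) : ∃ t' r', FF T A B J t' r' := by
  obtain ⟨d, hd, rfl⟩ := h.all_blk h2 hJ
  exact ⟨_, _, h.cj_mem hd.1 hd.2⟩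

theorem blk3 {J₁ J₂ J₃ : Subgroup G} (h₁ : BK A J₁) (h₂ : BK A J₂) (h₃ : BK A J₃) :
    J₁ = J₂ ∨ J₁ = J₃ ∨ J₂ = J₃ := by
  obtain ⟨_, _, a⟩ := h.ex h2 h₁
  obtain ⟨_, _, b⟩ := h.ex h2 h₂
  obtain ⟨_, _, c⟩ := h.ex h2 h₃
  exact r3 h.mod h.am.rankA a.tv b.tv c.tv

/-- two neighbours with the same point on the block `K` are conjugate under the other block -/
theorem nbr {J T' : Subgroup G} (hJ : BK A J) (hne : J ≠ K) {g t' : G} (hg : g ∈ A)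
    (h' : FF T' A cj(g, B) K t' r) : ∃ j ∈ J, ∃ d ∈ B, g = j * d := by
  obtain ⟨d, hd, n, hn, e⟩ := h.dec (inv_mem hg)
  have hb : bN A (ZZ A) ⊥ ≤ J ⊔ K := sup_le (hJ.ge.trans le_sup_left) (sSup_le fun X hX => by
    rcases h.blk3 h2 hJ h.blk hX with a | a | a
    exacts [absurd a hne, a ▸ le_sup_left, a ▸ le_sup_right])
  obtain ⟨j, hj, k, hk, e'⟩ := (mem_sup_of_le_normalizer_right (H := J) (N := K)
    fun x hx => K_norm h.mod h.blk hJ hx).1 (hb (inv_mem hn))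
  have e2 : g = j * k * d⁻¹ := by rw [← e', ← mul_inv_rev, ← e, inv_inv]
  have h3 := h.cj (j * k)
  rw [cj_of_mem (mul_mem (hJ.le hj) (h.blk.le hk)),
    cj_eq_iff.2 (mul_mem (K_norm h.mod h.blk hJ hj) (le_normalizer hk))] at h3
  rw [e2, cj_mul, cj_of_mem (inv_mem hd.2)] at h'
  have h4 : Commute (j * k) r := comm_iff.2 (h3.uniq h')
  have h5 : Commute k r := by simpa using (K_comm h.mod hJ h.blk hne hj h.mem).inv_left.mul_left h4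
  exact ⟨j, hj, k * d⁻¹, mul_mem (h.am.C_leB (K_fix h.mod h.blk hk h.mem h.ne h5)) (inv_mem hd.2),
    by rw [e2, mul_assoc]⟩

end FF

end Cfsg.Agent.QZ
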