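import Mathlib
import Cfsg.Agent.QZ.FF

/-! The case `b = 1`: construction of the frame. -/

set_option autoImplicit false
set_option linter.unusedSectionVars false

namespace Cfsg.Agent.QZ

open Subgroup Cfsg.Agent.PLocal Cfsg.Agent.PLocal.Amb Cfsg.Agent.PLocal.CP Cfsg.Agent.PLocal.JC
open Cfsg.Agent.NG
open scoped commutatorElement

variable {G : Type*} [Group G] [Finite G] {T A B : Subgroup G}

section aux
variable {K L : Subgroup G} {v e u a : G}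

theorem b1_ne (h' : FF T B A L e v) : e ≠ 1 ∧ e ≠ v := by
  obtain ⟨w, hw, c⟩ := tv_act h'.mod h'.tv
  exact ⟨fun f => c (f ▸ Commute.one_left w), fun f => c (f ▸ mcomm h'.mod h'.rZ (W_le h'.mod h'.blk hw))⟩

theorem b1_sq (a3 : a ^ 3 = 1) {x : G} (h : Commute (a * a) x) : Commute a x := by
  have := h.pow_left 2
  rwa [← sq, ← pow_mul, show 2 * 2 = 3 + 1 from rfl, pow_succ, a3, one_mul] at this

theorem b1_a (h : FF T A B K u v) (h' : FF T B A L e v) (hD : A ⊓ B = T) (he : e ∈ WW A K)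
    (hu : u ∈ WW B L) : ∃ a ∈ K, a ∉ 𝐂[ZZ A] ∧ a ^ 3 = 1 ∧ u * a * u⁻¹ = a⁻¹ ∧ a * v * a⁻¹ = e ∧
      a * e * a⁻¹ = e * v := by
  have := Fact.mk Nat.prime_two
  obtain ⟨e1, e2⟩ := b1_ne h'
  obtain ⟨x, hx, hx'⟩ := Blk_ex h.blk
  obtain ⟨a, o, i, m, -⟩ := exists_odd_inverted (msq h'.mod (W_le h'.mod h'.blk hu)) (normC h.mod h.tv.mem)
    (normC h.mod (h.blk.le hx)) ⟨3, by decide, cube_mem h.mod h.blk hx⟩ (tv_inv h.mod h.tv hx)
  have aK : a ∈ K := by simpa using mul_mem (Blk_ge h.blk ⟨h.am.C_leA m, m⟩) hx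
  have aC : a ∉ 𝐂[ZZ A] := fun f => hx' (inv_mem_iff.1 ((mul_mem_cancel_left f).1 m))
  have a3 : a ^ 3 = 1 := eq_one_of_isPGroup_of_coprime h.am.syl.pgrp (hD.le ⟨h.am.C_leA
    (cube_mem h.mod h.blk aK), h.am.C_leB (cube_mem h.mod h.blk aK)⟩)
    (Nat.coprime_two_right.2 (o.of_dvd_nat (orderOf_pow_dvd 3)))
  have k : ∀ {b p : G}, b ∈ K → b ∉ 𝐂[ZZ A] → p ∈ WW A K → p ≠ 1 → b * p * b⁻¹ = v ∨ b * p * b⁻¹ = e ∨
      b * p * b⁻¹ = e * v := fun bK bC hp p1 => (W_cases h.mod h.blk h.mem he h.ne e1 e2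
        (Amb.conj_mem_of_mem_normalizer (K_normW h.mod h.blk bK) hp)).resolve_left (cj_ne_one p1)
  have n : ∀ {b p : G}, b ∈ K → b ∉ 𝐂[ZZ A] → p ∈ WW A K → p ≠ 1 → ¬ Commute b p :=
    fun bK bC hp p1 c => bC (K_fix h.mod h.blk bK hp p1 c)
  have k2 : ∀ {b : G}, b ∈ K → b ∉ 𝐂[ZZ A] → b ^ 3 = 1 → b * v * b⁻¹ = e → b * e * b⁻¹ = e * v :=
    fun {b} bK bC b3 f => by
    rcases k bK bC he e1 with g | g | g
    · exact (n bK bC h.mem h.ne (b1_sq b3 (comm_iff.2 (by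
        rw [show b * b * v * (b * b)⁻¹ = b * (b * v * b⁻¹) * b⁻¹ by group, f, g])))).elim
    · exact (n bK bC he e1 (comm_iff.2 g)).elim
    · exact g
  have aC' : a⁻¹ ∉ 𝐂[ZZ A] := fun f => aC (inv_mem_iff.1 f)
  rcases k aK aC h.mem h.ne with f | f | f
  · exact (n aK aC h.mem h.ne (comm_iff.2 f)).elim
  · exact ⟨a, aK, aC, a3, i, f, k2 aK aC a3 f⟩
  rcases k (inv_mem aK) aC' h.mem h.ne with g | g | g
  · exact (n (inv_mem aK) aC' h.mem h.ne (comm_iff.2 g)).elim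
  · have a3' : a⁻¹ ^ 3 = 1 := by rw [inv_pow, a3, inv_one]
    exact ⟨_, inv_mem aK, aC', a3', by rw [← conj_inv, i], g, k2 (inv_mem aK) aC' a3' g⟩
  · exact (n aK aC h.mem h.ne (b1_sq a3 (comm_iff.2 (by
      rw [show a * a * v * (a * a)⁻¹ = a * (a * v * a⁻¹) * a⁻¹ by group, f, ← g]; group)))).elim

theorem b1_N (h : FF T A B K u v) (h' : FF T B A L e v) (he : e ∈ WW A K) (av : a * v * a⁻¹ = e)
    (ae : a * e * a⁻¹ = e * v) {w : G} (hw : w ∈ WW A K) :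
    w * (a * w * a⁻¹) * (a * (a * w * a⁻¹) * a⁻¹) = 1 := by
  obtain ⟨e1, e2⟩ := b1_ne h'
  have ee := msq h.mod (W_le h.mod h.blk he)
  have vv := msq h.mod h.rZ
  have c := (mcomm h.mod h.rZ (W_le h.mod h.blk he)).eq
  have f : a * (e * v) * a⁻¹ = v := by rw [← conj_mul, av, ae, mul_assoc, c, ← mul_assoc, ee, one_mul]
  rcases W_cases h.mod h.blk h.mem he h.ne e1 e2 hw with g | g | g | g <;> rw [g]
  · group
  · rw [av, ae, mul_assoc, ← mul_assoc e, ee, one_mul, vv]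
  · rw [ae, f, ← mul_assoc, ee, one_mul, vv]
  · rw [f, av, mul_assoc e, vv, mul_one, ee]

theorem b1_u (h' : FF T B A L e v) (hu : u ∈ WW B L) {y : G} (hy : y ∈ B) (c : Commute y v) :
    u * y * u⁻¹ = y ∨ u * y * u⁻¹ = y * v := by
  have uu := inv_sq (msq h'.mod (W_le h'.mod h'.blk hu))
  refine (cpt h'.mod h'.blk (norm_of_fix h'.mod h'.blk hy h'.mem h'.ne c).2 h'.mem h'.ne c hu).imp
    (fun f => comm_iff.1 (comm_iff.2 f).symm) fun f => ?_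
  rw [uu, mul_assoc, mul_inv_eq_iff_eq_mul.1 f, c.eq, mul_assoc u v, ← mul_assoc, ← uu, uu]
  nth_rewrite 1 [← uu]
  rw [inv_mul_cancel, one_mul]

theorem b1_Q (h : FF T A B K u v) (h' : FF T B A L e v) (he : e ∈ WW A K)
    (hu : u ∈ WW B L) (aK : a ∈ K) (a3 : a ^ 3 = 1) (ua : u * a * u⁻¹ = a⁻¹) (av : a * v * a⁻¹ = e)
    (ae : a * e * a⁻¹ = e * v) {c : G} (hc : c ∈ T) (ce : Commute c e) (cv : Commute c v) :
    ∃ w ∈ WW A K, Commute (c * w) a := by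
  obtain ⟨e1, e2⟩ := b1_ne h'
  have hW : ∀ w ∈ WW A K, Commute c w := fun w hw => by
    rcases W_cases h.mod h.blk h.mem he h.ne e1 e2 hw with g | g | g | g <;> rw [g]
    exacts [Commute.one_right _, cv, ce, ce.mul_right cv]
  have h1 := h.am.C_leB (comm_K h.mod h.blk (norm_of_fix h.mod h.blk (h.am.TA hc) h.mem h.ne cv).1 hW
    (inv_mem aK))
  have h2 : a⁻¹ * c * a ∈ B := by
    have := mul_mem (inv_mem h1) (h.am.TB hc)
    rwa [show (c * a⁻¹ * c⁻¹ * a⁻¹⁻¹)⁻¹ * c = a⁻¹ * c * a by group] at this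
  have k : ∀ {y : G}, y ∈ B → Commute y v → ∃ w ∈ WW A K, u * y * u⁻¹ = y * w := fun hy f =>
    (b1_u h' hu hy f).elim (fun g => ⟨1, one_mem _, by rw [g, mul_one]⟩) fun g => ⟨v, h.mem, g⟩
  obtain ⟨w, hw, f⟩ := k (h.am.TB hc) cv
  obtain ⟨w', hw', f'⟩ := k h2 ((comm_cj_iff a).1 (by rw [av]; simpa [mul_assoc] using ce))
  have N := K_normW h.mod h.blk aK
  have ia : a⁻¹ = a * a := inv_eq_of_mul_eq_one_left (by rw [← pow_three', a3])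
  have ua' : u * a⁻¹ * u⁻¹ = a := by rw [← conj_inv, ua, inv_inv]
  rw [← conj_mul, ← conj_mul, ua', ua, f] at f'
  obtain ⟨z, hz, g⟩ : ∃ z ∈ WW A K, a * c * a⁻¹ = c * z := by
    refine ⟨w * (a⁻¹ * w'⁻¹ * a), mul_mem hw (Amb.inv_conj_mem_of_mem_normalizer N (inv_mem hw')), ?_⟩
    rw [← mul_assoc, show c * w = a⁻¹ * (a * (c * w) * a⁻¹) * a by group, f', show a⁻¹ *
      (a⁻¹ * c * a * w') * a * (a⁻¹ * w'⁻¹ * a) = (a * a)⁻¹ * c * (a * a) by group, ← ia, inv_inv]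
  have z1 := Amb.conj_mem_of_mem_normalizer N hz
  refine ⟨_, z1, (comm_iff.2 ?_).symm⟩
  have := b1_N h h' he av ae hz
  rw [(mcomm h.mod (W_le h.mod h.blk hz) (W_le h.mod h.blk z1)).eq, mul_assoc, mul_eq_one_iff_inv_eq,
    inv_sq (msq h.mod (W_le h.mod h.blk z1))] at this
  rw [← conj_mul, g, mul_assoc c, ← this]

theorem b1_out (h : FF T A B K u v) (h' : FF T B A L e v) (he : e ∈ WW A K) (hu : u ∈ WW B L) {t : G}
    (ht : t ∈ T) (hn : ¬ Commute t v) : Commute e (t * u * t⁻¹) := by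
  obtain ⟨b1, b2⟩ := h'.am.bcj h'.blk (h.am.TB ht)
  have u1 : t * u * t⁻¹ ∈ WW B cj(t, L) := b2 ▸ conj_mem_cj t hu
  have v1 : t * v * t⁻¹ ∈ WW B cj(t, L) := b2 ▸ conj_mem_cj t h'.mem
  have eZ := W_le h.mod h.blk he
  have uZ := W_le h'.mod b1 u1
  have c1 := mcomm h'.mod uZ h'.rZ
  have c2 := mcomm h.mod eZ (Amb.conj_mem_of_mem_normalizer (h.am.normZ (h.am.TA ht)) h.rZ)
  rcases cpt h.mod h.blk (norm_of_fix h.mod h.blk (h.am.TA (h'.am.ZZ_le uZ)) h.mem h.ne c1).2 h.mem h.ne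
    c1 he with f | f
  · exact (comm_iff.2 f).symm
  rcases cpt h'.mod b1 (norm_of_fix h'.mod b1 h'.tv.mem v1 (cj_ne_one h.ne) c2).2 v1 (cj_ne_one h.ne)
    c2 u1 with g | g
  · exact comm_iff.2 g
  refine (hn (comm_iff.2 ?_)).elim
  have c3 := (mcomm h'.mod uZ (W_le h'.mod b1 v1)).eq
  have ee := msq h.mod eZ
  generalize t * u * t⁻¹ = x at *
  generalize t * v * t⁻¹ = y at *
  rw [c3, inv_sq ee] at g
  rw [← mul_inv_cancel_right y x, ← g, mul_assoc e, mul_assoc e, f, ← mul_assoc, ee, one_mul]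

end aux

/-- One side.  `U := ZZ A`, `W := WW A K = {1, v, e, ev}` (`W_cases`), `C := 𝐂[U] ≤ A ⊓ B = T` (`C_leA`, `C_leB`), `u` is the transvection, `u ∈ WW B L`.
* `a`: `NG.exists_odd_inverted` with `Y = C`, `x ∈ K \ C` (`Blk_ex`, `cube_mem`, `tv_inv`, `normC`) gives `a` of odd order, `u a u⁻¹ = a⁻¹`, `a ∈ K \ C`,
  `a³ ∈ C ≤ T` so `a³ = 1`.  `a` fixes no point of `W` (`K_fix`), so `a v a⁻¹ ∈ {e, ev}`; replace `a` by `a⁻¹` if necessary.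
* `A ≤ ⟨a⟩ ⊔ T`: `FF.sup_eq`, `Blk_or`.
* (Q) for `c ∈ T` centralizing `W` there is `w ∈ W` with `c w` commuting with `a`: `c ∈ N(K)` (`norm_of_fix`), `c₁ := a⁻¹ c a ∈ T` by `comm_K`; elements `y` of `T`
  commuting with `v` normalize `WW B L`, so `u y u⁻¹ ∈ {y, y v}` (`cpt`); `u c₁ u⁻¹ = a (u c u⁻¹) a⁻¹`, hence `a² c a⁻² ∈ c W`, so `a c a⁻¹ = c w₀`, `w₀ ∈ W`;
  `w ↦ w · a w a⁻¹` is onto `W` (`v ↦ ve, e ↦ v, ev ↦ e`), take `w` with `w · a w a⁻¹ = w₀`.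
* `ca`: if moreover `c` commutes with `u`, `u (c w) u⁻¹ = (c w) (w · u w u⁻¹)` commutes with `a⁻¹`, so `w · u w u⁻¹ ≠ v`, `w ∈ {1, v}` (`tv_W`).
* `t ∈ T` not commuting with `v` is not in `N(K)` (`FF.fixpt`); `idx` is `FF.mul_norm` + `fixpt`.  `a` commutes with `WW A (K^t) = W^t` (`K_comm`, `Am.bcj`).
  For every `y ∈ K^t`, `q := a⁻¹ y a y⁻¹ ∈ K ⊓ K^t`.. `∈ C` (`blk_comm`), `y a y⁻¹ = a q` has order 3; by (Q) `q = c₀ w`, `1 = (a w c₀)³ = (a w)³ c₀³ = c₀³`, `c₀ ∈ T`, so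
  `q = w ∈ W`.  Apply this for `t` with `y = a^t`, and for `t⁻¹` with `y = t⁻¹ a⁻¹ t` conjugated by `t`: `a⁻¹ a^t a (a^t)⁻¹ ∈ W ⊓ W^t = 1` (`blk_eq'`). -/
theorem side {K L : Subgroup G} {v e u : G} (h : FF T A B K u v) (h' : FF T B A L e v) (hD : A ⊓ B = T)
    (he : e ∈ WW A K) (hu : u ∈ WW B L) : ∃ a ∈ A, a ^ 3 = 1 ∧ a * v * a⁻¹ = e ∧ a * e * a⁻¹ = e * v ∧
      A ≤ zpowers a ⊔ T ∧ (∀ c ∈ T, Commute c e → Commute c u → Commute c a ∨ Commute (c * v) a) ∧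
      (∀ s ∈ T, ∀ t ∈ T, ¬ Commute s v → ¬ Commute t v → Commute (s * t) v) ∧
      ∀ t ∈ T, ¬ Commute t v → Commute a (t * v * t⁻¹) ∧ Commute a (t * e * t⁻¹) ∧ Commute a (t * a * t⁻¹) := by
  have := Fact.mk Nat.prime_two
  obtain ⟨a, aK, aC, a3, ua, av, ae⟩ := b1_a h h' hD he hu
  obtain ⟨e1, e2⟩ := b1_ne h'
  have CT : 𝐂[ZZ A] ≤ T := fun x hx => hD.le ⟨h.am.C_leA hx, h.am.C_leB hx⟩
  have nK : ∀ {t : G}, t ∈ T → ¬ Commute t v → t ∉ 𝐍[K] := fun ht hn f =>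
    hn (h.fixpt (h.am.TA ht) (h.am.TB ht) f)
  have Q := @b1_Q _ _ _ _ _ _ _ _ _ _ _ _ h h' he hu aK a3 ua av ae
  have Q2 : ∀ {J : Subgroup G} {y : G}, BK A J → y ∈ J → a⁻¹ * y * a * y⁻¹ ∈ WW A K := fun {J y} hJ hy => by
    have h1 := h.mod.blk_comm h.blk hJ (commutator_mem_commutator (inv_mem aK) hy)
    rw [secCent_bot, commutatorElement_def, inv_inv] at h1
    obtain ⟨w, hw, c⟩ := Q (CT h1) (mem_C.1 h1 _ (W_le h.mod h.blk he)) (mem_C.1 h1 _ h.rZ)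
    have wZ := W_le h.mod h.blk hw
    have h2 : (w * a) ^ 3 = 1 := by
      rw [show (w * a) ^ 3 = w * (a * w * a⁻¹) * (a * (a * w * a⁻¹) * a⁻¹) * a ^ 3 by
        simp only [pow_succ]; group, b1_N h h' he av ae hw, a3, one_mul]
    have h3 : (a⁻¹ * y * a * y⁻¹ * w) ^ 3 = 1 := by
      have := (((mem_C.1 h1 _ wZ).mul_left (Commute.refl w)).mul_right c).mul_pow 3
      rw [h2, mul_one, mul_assoc _ w, ← mul_assoc w, msq h.mod wZ, one_mul, show a⁻¹ * y * a * y⁻¹ * a =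
        a⁻¹ * y * a * (a⁻¹ * y)⁻¹ by group, conj_pow, a3, mul_one, mul_inv_cancel] at this
      exact this.symm
    have h4 := eq_one_of_isPGroup_of_coprime h.am.syl.pgrp (mul_mem (CT h1) (h.am.ZZ_le wZ))
      (Nat.Coprime.coprime_dvd_left (orderOf_dvd_of_pow_eq_one h3) (by decide))
    rw [eq_inv_of_mul_eq_one_left h4]
    exact inv_mem hw
  refine ⟨a, h.blk.le aK, a3, av, ae, h.sup_eq.ge.trans (sup_le (Blk_or h.blk
    ((inf_le_right.trans CT).trans le_sup_right) aK aC (mem_sup_left (mem_zpowers a)))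
    (hD.le.trans le_sup_right)), fun c hc ce cu => ?_, fun s hs t ht h1 h2 => h.fixpt
      (h.am.TA (mul_mem hs ht)) (h.am.TB (mul_mem hs ht))
      (h.mul_norm (h.am.TA hs) (h.am.TA ht) (nK hs h1) (nK ht h2)), fun t ht hn => ?_⟩
  · have f := tv_W h.mod h.tv h.mem h.ne h.com he e1 e2
    obtain ⟨w, hw, g⟩ := Q hc ce (by
      simpa [f] using ce.inv_right.mul_right ((cu.mul_right ce).mul_right cu.inv_right))
    by_cases w1 : w = 1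
    · exact .inl (by simpa [w1] using g)
    by_cases w2 : w = v
    · exact .inr (w2 ▸ g)
    have g' := comm_cj g u
    rw [ua, ← conj_mul, comm_iff.1 cu.symm, tv_W h.mod h.tv h.mem h.ne h.com hw w1 w2, ← mul_assoc] at g'
    exact (aC (K_fix h.mod h.blk aK h.mem h.ne (by
      simpa only [inv_mul_cancel_left] using
        (g.inv_left.mul_left (Commute.inv_right_iff.1 g')).symm))).elim
  · obtain ⟨b1, b2⟩ := h.am.bcj h.blk (h.am.TA ht)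
    have ne : K ≠ cj(t, K) := fun f => nK ht hn (cj_eq_iff.1 f.symm)
    refine ⟨K_comm h.mod h.blk b1 ne aK (b2.ge (conj_mem_cj t h.mem)),
      K_comm h.mod h.blk b1 ne aK (b2.ge (conj_mem_cj t he)), ?_⟩
    have q1 := Q2 b1 (conj_mem_cj t aK)
    have q2 := Amb.conj_mem_of_mem_normalizer (K_normW h.mod b1 (conj_mem_cj t aK)) (b2.ge (conj_mem_cj t
      (Q2 (h.am.bcj h.blk (h.am.TA (inv_mem ht))).1 (conj_mem_cj t⁻¹ (inv_mem aK)))))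
    rw [show t * a * t⁻¹ * (t * (a⁻¹ * (t⁻¹ * a⁻¹ * t⁻¹⁻¹) * a * (t⁻¹ * a⁻¹ * t⁻¹⁻¹)⁻¹) * t⁻¹) *
      (t * a * t⁻¹)⁻¹ = a⁻¹ * (t * a * t⁻¹) * a * (t * a * t⁻¹)⁻¹ by group] at q2
    have q3 := by_contra fun f => ne (blk_eq' h.mod h.blk b1 q1 q2 f)
    rw [mul_inv_eq_one, mul_assoc, inv_mul_eq_iff_eq_mul] at q3
    exact q3.symm

/-- `sw h.mod h.symm.mod` (`ZZ_le`, `TA`) gives `Cr A (ZZ A) B (ZZ B) K L e u v`; `Am.not_le` (first alternative) gives `FF T A B K u v` and `FF T B A L e v`; use `side`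
twice.  `dec`: `x` commuting with `v` normalizes both lines (`norm_of_fix`); `x e x⁻¹ ∈ {e, ev}` (`cpt`), multiply by `u` if necessary, then by `e`.
`out`: `e, e^t ∈ ZZ A`, `u, u^t ∈ ZZ B` (`mcomm`); `u^t` commutes with `v`, so `u^t e u^{-t} ∈ {e, e v}`, and `e` commutes with `v^t ∈ WW B (L^t)`, so
`e u^t e⁻¹ ∈ {u^t, u^t v^t}`; if they do not commute then `v = v^t`. -/
theorem Am.fr_of (h : Am T A B) (hD : A ⊓ B = T) (hn : ¬ ZZ B ≤ 𝐂[ZZ A]) :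
    ∃ v e u a a' : G, Fr T A B v e u a a' := by
  obtain ⟨K, L, e, u, v, c⟩ := sw h.mod h.symm.mod (h.symm.ZZ_le.trans h.TA) (h.ZZ_le.trans h.TB) hn
  have eZ := W_le h.mod c.tv.blk c.w_mem
  have uZ := W_le h.symm.mod c.tv'.blk c.w'_mem
  have f : FF T A B K u v := ⟨h, c.tv, h.TB (h.symm.ZZ_le uZ), h.not_le c.tv (.inl uZ), c.r_mem, c.r_ne,
    mcomm h.symm.mod uZ (W_le h.symm.mod c.tv'.blk c.r_mem')⟩
  have f' : FF T B A L e v := ⟨h.symm, c.tv', h.TA (h.ZZ_le eZ), h.symm.not_le c.tv' (.inl eZ), c.r_mem',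
    c.r_ne, mcomm h.mod eZ (W_le h.mod c.tv.blk c.r_mem)⟩
  obtain ⟨a, a1, a2, a3, a4, a5, a6, a7, a8⟩ := side f f' hD c.w_mem c.w'_mem
  obtain ⟨b, b1, b2, b3, b4, b5, b6, -, b8⟩ := side f' f (inf_comm A B ▸ hD) c.w'_mem c.w_mem
  have ee := msq h.mod eZ
  have uu := msq h.symm.mod uZ
  refine ⟨v, e, u, a, b, h.syl.pgrp, h.TA, h.TB, h.free, h.ZZ_le eZ, h.symm.ZZ_le uZ, ee, uu,
    msq h.mod f.rZ, c.r_ne, ?_, a1, b1, a2, b2, a3, a4, b3, b4, a5, b5, fun x hx cx => ?_, a6,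
    fun x hx c1 c2 => b6 x hx c2 c1, a7, fun t ht hn => ⟨mcomm h.mod eZ
      (Amb.conj_mem_of_mem_normalizer (h.normZ (h.TA ht)) eZ), b1_out f f' c.w_mem c.w'_mem ht hn,
      b1_out f' f c.w'_mem c.w_mem ht hn, mcomm h.symm.mod uZ
      (Amb.conj_mem_of_mem_normalizer (h.symm.normZ (h.TB ht)) uZ)⟩, a8, b8⟩
  · have := c.eq
    rw [inv_sq uu] at this
    rw [mul_assoc e, mul_assoc e, this, ← mul_assoc, ee, one_mul]
  · obtain ⟨s, hs, c1⟩ := f.kill₁ (h.TA hx) (h.TB hx)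
      (norm_of_fix h.mod f.blk (h.TA hx) f.mem f.ne cx).1
    have h1 := mul_mem hx (zpowers_le.2 (h.symm.ZZ_le uZ) hs)
    obtain ⟨s', hs', c2⟩ := f'.kill₁ (h.TB h1) (h.TA h1)
      (norm_of_fix h.symm.mod f'.blk (h.TB h1) f'.mem f'.ne (c1 v f.mem)).1
    refine ⟨s * s', mul_mem (zpowers_le.2 (subset_closure (by simp)) hs)
      (zpowers_le.2 (subset_closure (by simp)) hs'), ?_, mul_assoc x s s' ▸ c2 u c.w'_mem⟩
    exact mul_assoc x s s' ▸ (c1 e c.w_mem).mul_left (mcomm h.mod (zpowers_le.2 eZ hs') eZ)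

end Cfsg.Agent.QZ
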