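import Mathlib
import Cfsg.Agent.QZ.FF
import Cfsg.Agent.PLocal.BkR2

/-! Case A of the amalgam argument: pushing up. -/

set_option autoImplicit false
set_option linter.unusedSectionVars false

namespace Cfsg.Agent.QZ

open Subgroup Cfsg.Agent.PLocal Cfsg.Agent.PLocal.Amb Cfsg.Agent.PLocal.CP Cfsg.Agent.PLocal.JC
open Cfsg.Agent.NG
open scoped commutatorElement

variable {G : Type*} [Group G] [Finite G] {T A B K : Subgroup G} {t r x : G}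

namespace FF

variable (h : FF T A B K t r)
include h

theorem not_mem (hx : x ∈ K) (hx' : x ∉ 𝐂[ZZ A]) : x * t * x⁻¹ ∉ B := fun e =>
  (tv_gen h.mod h.tv hx hx').2.1 (h.K_B (tv_gen h.mod h.tv hx hx').1 (mul_mem e (inv_mem h.tB)))

theorem caseU (hc : ZZ B ≤ 𝐂[ZZ A]) (hx : x ∈ K) (hx' : x ∉ 𝐂[ZZ A])
    (H : ∀ s ∈ cj(x, ZZ B), t * s * t⁻¹ = s ∨ t * s * t⁻¹ = s * r) :
    A ≤ 𝐍[ZZ A ⊔ ZZ B] ∧ ∀ u ∈ ZZ A ⊔ ZZ B, t * u * t⁻¹ = u ∨ t * u * t⁻¹ = u * r := by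
  have hxA := h.blk.le hx
  have a := h.am.cj x
  rw [cj_of_mem hxA] at a
  rw [← ZZ_cj] at H
  have h1 : ZZ cj(x, B) ≤ A := a.symm.ZZ_le.trans a.TA
  have h2 : ZZ cj(x, B) ≤ 𝐂[ZZ A] := by
    rw [ZZ_cj, ← cj_eq_iff.2 (normC h.mod hxA)]; exact cj_mono x hc
  have h3 : ∀ u ∈ ZZ A ⊔ ZZ cj(x, B), t * u * t⁻¹ = u ∨ t * u * t⁻¹ = u * r := fun u hu => by
    obtain ⟨z, hz, s, hs, rfl⟩ := (mem_sup_of_le_normalizer_left (h1.trans h.am.normZ)).1 hu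
    have e : t * (z * s) * t⁻¹ = (t * z * t⁻¹) * (t * s * t⁻¹) := by group
    have c := (mem_C.1 (h2 hs) r h.rZ).eq
    rcases tv_pt h.mod h.tv h.mem h.ne h.com hz with e1 | e1 <;> rcases H s hs with e2 | e2 <;> rw [e, e1, e2]
    · exact Or.inl rfl
    · exact Or.inr (mul_assoc _ _ _).symm
    · right; rw [mul_assoc, ← c, mul_assoc]
    · left; rw [mul_assoc, ← mul_assoc r, ← c, mul_assoc s, msq h.mod h.rZ, mul_one]
  have h4 : t ∈ 𝐍[ZZ A ⊔ ZZ cj(x, B)] := mem_normalizer_of_cj_le (cj_le_iff_forall.2 fun u hu => by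
    rcases h3 u hu with e | e <;> rw [e]
    exacts [hu, mul_mem hu (mem_sup_left h.rZ)])
  have h5 := a.eq_of (X := A ⊓ 𝐍[ZZ A ⊔ ZZ cj(x, B)]) (le_inf inf_le_left (Amb.le_normalizer_sup
    (inf_le_left.trans a.normZ) (inf_le_right.trans a.symm.normZ))) inf_le_left fun e =>
      h.not_mem (inv_mem hx) (by rwa [inv_mem_iff]) (by simpa using mem_cj.1 (e ⟨h.tv.mem, h4⟩))
  have h6 : A ≤ 𝐍[ZZ A ⊔ ZZ cj(x, B)] := h5.ge.trans inf_le_right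
  have h7 : ZZ A ⊔ ZZ cj(x, B) = ZZ A ⊔ ZZ B := by
    rw [← cj_eq_iff.2 (h6 (inv_mem hxA)), cj_sup, ZZ_cj, cj_inv_cj, cj_eq_iff.2 (h.am.normZ (inv_mem hxA))]
  rw [h7] at h6 h3
  exact ⟨h6, h3⟩

theorem caseN (ht : t ∈ 𝐂[ZZ B]) (h1 : A ≤ 𝐍[ZZ A ⊔ ZZ B])
    (h2 : ∀ u ∈ ZZ A ⊔ ZZ B, t * u * t⁻¹ = u ∨ t * u * t⁻¹ = u * r) : ncl (zpowers t) A ⊓ B ≤ 𝐂[ZZ B] := by
  set W := ncl (WW A K) A
  set N := ncl (zpowers t) A
  have hW : A ≤ 𝐍[W] := le_normalizer_ncl _ _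
  have hNA : N ≤ A := ncl_le_of_le (zpowers_le.2 h.tv.mem)
  have hUA : ZZ A ⊔ ZZ B ≤ A ⊓ B := sup_le (h.am.ZZ_le.trans h.am.TD) (h.am.symm.ZZ_le.trans h.am.TD)
  have h3 : N ≤ secCent (ZZ A ⊔ ZZ B) W := CP.ncl_le (zpowers_le.2 ⟨hW h.tv.mem, fun u hu => by
    rw [commutatorElement_def]
    rcases h2 u hu with e | e <;> rw [e]
    · simp
    · exact Amb.conj_mem_of_mem_normalizer (hW (hUA hu).1) (le_ncl _ _ h.mem)⟩) (le_normalizer_secCent h1 hW)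
  have h4 : A ≤ 𝐍[N ⊓ 𝐂[W]] := Amb.le_normalizer_inf (le_normalizer_ncl _ _) (Amb.le_normalizer_centralizer hW)
  have h5 : ⁅ZZ A ⊔ ZZ B, N ⊓ 𝐂[W]⁆ ≤ W := (le_secCent_iff'.1 (inf_le_left.trans h3)).2
  have h6 : N ⊓ 𝐂[W] ≤ 𝐂[ZZ A] := h.am.red.red _ (inf_le_left.trans hNA) h4
    (pRes_le_centralizer_of_commutator_le (h.am.red.isPGroup.to_le h.ncl_le) ((pRes_le 2 _).trans inf_le_right)
      (by rw [commutator_comm]; exact (commutator_mono le_sup_left le_rfl).trans h5))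
  have h7 : ⁅ZZ A ⊔ ZZ B, N ⊓ 𝐂[W]⁆ ≤ ZZ B := commutator_le.2 fun u hu n hn => by
    obtain ⟨z, hz, s, hs, rfl⟩ := (mem_sup_of_le_normalizer_left
      ((h.am.symm.ZZ_le.trans h.am.TA).trans h.am.normZ)).1 hu
    have e := comm_iff.1 (mem_C.1 (h6 hn) z hz).inv_right
    have := Amb.conj_mem_of_mem_normalizer (h.am.symm.normZ (h.am.TB (h.am.ZZ_le hz))) (mul_mem hs
      (Amb.conj_mem_of_mem_normalizer (h.am.symm.normZ (h.am.C_leB (h6 hn))) (inv_mem hs)))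
    rw [← e] at this
    rwa [show ⁅z * s, n⁆ = z * (s * (n * s⁻¹ * n⁻¹)) * (n * z⁻¹ * n⁻¹) by rw [commutatorElement_def]; group]
  have h8 : N ⊓ 𝐂[W] ≤ 𝐂[ZZ B] := by
    rcases h.irr h5 (Amb.le_normalizer_commutator h1 h4) with e | e
    · rw [commutator_comm, commutator_eq_bot_iff_le_centralizer] at e
      exact e.trans (Amb.centralizer_anti le_sup_right)
    · obtain ⟨w, hw, c⟩ := tv_act h.mod h.tv
      exact absurd (mem_C.1 ht w (h7 (e hw))) c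
  intro n hn
  obtain ⟨s, hs, c⟩ := h.kill (hNA hn.1) hn.2 fun g hg => (ncl_le_iff.2 fun f hf => by
    rw [cj_zpowers']
    exact zpowers_le.2 ((h.mod.tv_facts (h.tv.cj_mem hf)).2.2.2.2 _ (h.am.bcj h.blk hg).1).1 : N ≤ _) hn.1
  have h9 : s ∈ 𝐂[ZZ B] := CP.ncl_le (zpowers_le.2 ht) (inf_le_right.trans (normC h.am.symm.mod)) hs
  exact (Subgroup.mul_mem_cancel_right _ h9).1 (h8 ⟨mul_mem hn.1 (ncl_mono le_rfl inf_le_left hs), c⟩)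

theorem push (h1 : ncl (zpowers t) A ⊓ B ≤ 𝐂[ZZ B]) : ∃ L : Subgroup G, T ≤ L ∧ 𝐐[L] ≠ ⊥ ∧
    (∀ g ∈ A, ∃ l ∈ L ⊓ A, ∃ y ∈ B, g = l * y) ∧ (∀ g ∈ B, ∃ l ∈ L ⊓ B, ∃ y ∈ A, g = l * y) ∧
    ZZ A ≤ ncl ΩZ[2, T] L ∧ ZZ B ≤ ncl ΩZ[2, T] L := by
  set N := ncl (zpowers t) A
  have hNA : N ≤ A := ncl_le_of_le (zpowers_le.2 h.tv.mem)
  obtain ⟨x, hx, hx'⟩ := Blk_ex h.blk
  obtain ⟨H, ⟨a1, a2, a3⟩, hmin⟩ := (Set.toFinite {X : Subgroup G | T ≤ X ∧ X ≤ N ⊔ T ∧ ¬ X ≤ B}).exists_minimal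
    ⟨N ⊔ T, le_sup_right, le_rfl, fun e => h.not_mem hx hx'
      (e (mem_sup_left (cj_le_ncl _ (h.blk.le hx) (conj_mem_cj x (mem_zpowers t)))))⟩
  have hHA : H ≤ A := a2.trans (sup_le hNA h.am.TA)
  have hTR : T ≤ 𝐍[T ⊓ 𝐂[ZZ B]] := Amb.le_normalizer_inf le_normalizer (h.am.TB.trans (normC h.am.symm.mod))
  have hZR : ΩZ[2, T] ≤ T ⊓ 𝐂[ZZ B] := le_inf (omegaZ_le T) (h.am.symm.Z_le.trans
    (h.am.symm.red.le_centralizer h.am.symm.red))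
  have hTH := h.am.syl.mono a1 le_top
  have h2 : 𝐎[2, H] ≤ N := (pRes_mono a2).trans
    (pRes_sup_le h.am.syl.pgrp (h.am.TA.trans (le_normalizer_ncl _ _)))
  have h3 : IsSyl 2 (T ⊓ 𝐂[ZZ B]) (𝐎[2, H] ⊔ T ⊓ 𝐂[ZZ B]) := by
    have := hTH.inf_of_le (N := 𝐎[2, H] ⊔ T ⊓ 𝐂[ZZ B]) (sup_le (pRes_le 2 H) (inf_le_left.trans a1))
      (hTH.pRes_sup.ge.trans (sup_le (le_sup_left.trans le_normalizer)
        (Amb.le_normalizer_sup (a1.trans (le_normalizer_pRes 2 H)) hTR)))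
    rwa [inf_comm, sup_comm, sup_inf_of_le_normalizer inf_le_left ((inf_le_left.trans a1).trans
      (le_normalizer_pRes 2 H)), sup_eq_left.2 (le_inf inf_le_right ((inf_le_inf h2 h.am.TB).trans h1)),
      sup_comm] at this
  obtain ⟨Y, y1, y2, y3, y4⟩ := Bk.push_even h.am.syl h.am.char a1
    (fun e => h.am.QA (le_bot_iff.1 (e ▸ Amb.pCoreOf_le_of_le hHA (h.am.sylA.pCoreOf_le.trans a1)))) h.am.TB a3
    (fun X b1 b2 => by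
      by_cases e : X ≤ B
      exacts [Or.inr e, Or.inl (le_antisymm b2 (hmin ⟨b1, b2.trans a2, e⟩ b2))])
    (fun e => h.am.Z_ne (le_bot_iff.1 (e ▸ hZR))) inf_le_left h3 hTR
  have hTL : T ≤ 𝐍[Y] := hTR.trans y3
  have b1 : ∀ g ∈ A, ∃ l ∈ 𝐍[Y] ⊓ A, ∃ y ∈ B, g = l * y := fun g hg => by
    have e := h.am.eq_of (X := 𝐍[Y] ⊓ A ⊔ A ⊓ 𝐂[ncl (WW A K) A]) (h.am.sylD.pRes_sup.ge.trans (sup_le
      (le_sup_right.trans' (le_inf ((pRes_le 2 _).trans inf_le_left) h.res_le))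
      (le_sup_left.trans' (le_inf hTL h.am.TA)))) (sup_le inf_le_right inf_le_left)
      fun e => a3 ((le_inf y4 hHA).trans (le_sup_left.trans e))
    obtain ⟨l, hl, y, hy, rfl⟩ := (mem_sup_of_le_normalizer_right (inf_le_right.trans h.normY)).1 (e.ge hg)
    exact ⟨l, hl, y, h.Y_le hy, rfl⟩
  have b2 : ∀ g ∈ B, ∃ l ∈ 𝐍[Y] ⊓ B, ∃ y ∈ 𝐂[ZZ B], g = l * y := fun g hg => by
    obtain ⟨l, hl, y, hy, rfl⟩ := (mem_sup_of_le_normalizer_right (inf_le_left.trans (normC h.am.symm.mod))).1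
      ((inf_normalizer_sup_centralizer h.am.symm.sylA h.am.symm.normZ).ge (mem_sup_left hg))
    exact ⟨l, ⟨y3 hl.2, hl.1⟩, y, hy, rfl⟩
  have b3 : ZZ B ≤ ncl ΩZ[2, T] 𝐍[Y] := by
    rw [h.am.symm.ZZ_eq]
    refine ncl_le_iff.2 fun g hg => ?_
    obtain ⟨l, hl, y, hy, rfl⟩ := b2 g hg
    rw [cj_mul, cj_eq_iff.2 (centralizer_le_normalizer' _ (Amb.centralizer_anti h.am.symm.Z_le hy))]
    exact cj_le_ncl _ hl.1
  refine ⟨𝐍[Y], hTL, fun e => y1 (le_bot_iff.1 (e ▸ Amb.le_pCoreOf (h.am.syl.pgrp.to_le (y2.trans inf_le_left))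
    le_normalizer le_rfl)), b1, fun g hg => ?_, ?_, b3⟩
  · obtain ⟨l, hl, y, hy, e⟩ := b2 g hg
    exact ⟨l, hl, y, h.am.symm.C_leB hy, e⟩
  · rw [h.am.ZZ_eq]
    refine ncl_le_iff.2 fun g hg => ?_
    obtain ⟨l, hl, y, hy, rfl⟩ := b1 g hg
    rw [cj_mul]
    exact cj_le_of_mem_normalizer ((cj_le_of_mem_normalizer h.am.symm.Z_le (h.am.symm.normZ hy)).trans b3)
      (le_normalizer_ncl _ _ hl.1)

theorem two_group {T' K' : Subgroup G} {t' r' : G} (h' : FF T' B A K' t' r') : IsPGroup 2 ↥(A ⊓ B) := by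
  have h1 := h'.norm_res
  rw [inf_comm] at h1
  by_contra hn
  have h2 : 𝐎[2, A ⊓ B] ≠ ⊥ := fun e => hn (isPGroup_of_pRes_le (IsPGroup.of_bot (p := 2)) e.le)
  exact Q_ne_bot_of_normal h.am.charA ((pRes_le 2 _).trans inf_le_left) h.norm_res h2
    (h.am.free _ (Amb.isPGroup_pCoreOf 2 _) (h.norm_res.trans (Amb.normalizer_le_normalizer_pCoreOf 2 _))
      (h1.trans (Amb.normalizer_le_normalizer_pCoreOf 2 _)))

end FF

end Cfsg.Agent.QZ
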