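import Mathlib
import Cfsg.Agent.QZ.Push

/-! The coset graph: critical distance, shifting critical pairs, and `A ⊓ B = T`. -/

set_option autoImplicit false
set_option linter.unusedSectionVars false

namespace Cfsg.Agent.QZ

open Subgroup Cfsg.Agent.PLocal Cfsg.Agent.PLocal.Amb Cfsg.Agent.PLocal.CP Cfsg.Agent.PLocal.JC
open Cfsg.Agent.NG MulAction
open scoped commutatorElement

variable {G : Type*} [Group G] [Finite G] {T A B : Subgroup G}

/-- an infinite walk -/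
def Wk {V : Type*} (adj : V → V → Prop) (f : ℕ → V) : Prop := ∀ i, adj (f i) (f (i + 1))

/-- prepend a vertex -/
def cons {V : Type*} (μ : V) (f : ℕ → V) : ℕ → V
  | 0 => μ
  | n + 1 => f n

theorem Wk.cons {V : Type*} {adj : V → V → Prop} {f : ℕ → V} (h : Wk adj f) {μ : V} (hμ : adj μ (f 0)) :
    Wk adj (cons μ f)
  | 0 => hμ
  | n + 1 => h n

theorem Wk.shift {V : Type*} {adj : V → V → Prop} {f : ℕ → V} (h : Wk adj f) (k : ℕ) :
    Wk adj fun i => f (k + i) := fun i => h (k + i)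

/-- vertex stabilizer -/
scoped notation:max "𝐒[" G ", " α "]" => MulAction.stabilizer G α

/-- all `Z`s at distance less than `b` commute -/
structure Gb (G : Type*) [Group G] {V : Type*} [MulAction G V] (adj : V → V → Prop) (b : ℕ) : Prop
    extends Gr G adj where
  com : ∀ f, Wk adj f → ∀ n < b, ZZ 𝐒[G, f n] ≤ 𝐂[ZZ 𝐒[G, f 0]]

variable {V : Type*} [MulAction G V] {adj : V → V → Prop} {b : ℕ} {f : ℕ → V}

theorem Gr.mod (g : Gr G adj) {α β : V} (h : adj α β) : Mod 𝐒[G, α] (ZZ 𝐒[G, α]) ⊥ :=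
  (g.am h).elim fun _ a => a.mod

theorem Gr.exists_b (g : Gr G adj) (hex : ∀ α, ∃ β, adj α β) {α β : V} (h : adj α β) :
    ∃ b f, Gb G adj (b + 1) ∧ Wk adj f ∧ ¬ ZZ 𝐒[G, f (b + 1)] ≤ 𝐂[ZZ 𝐒[G, f 0]] := by
  classical
  have key : ∃ n, ∃ f, Wk adj f ∧ ¬ ZZ 𝐒[G, f n] ≤ 𝐂[ZZ 𝐒[G, f 0]] := by
    by_contra! k
    choose nx hnx using hex
    have h1 : ∀ γ δ, Relation.ReflTransGen adj γ δ → ∃ f n, Wk adj f ∧ f 0 = γ ∧ f n = δ := fun γ δ r => by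
      induction r using Relation.ReflTransGen.head_induction_on with
      | refl => exact ⟨fun i => nx^[i] δ, 0, fun i => by
          simpa only [Function.iterate_succ_apply'] using hnx _, rfl, rfl⟩
      | head a _ ih =>
        obtain ⟨f, n, w, rfl, e⟩ := ih
        exact ⟨cons _ f, n + 1, w.cons a, rfl, e⟩
    have sy : ∀ {γ δ}, Relation.ReflTransGen adj γ δ → Relation.ReflTransGen adj δ γ := fun r => by
      induction r with
      | refl => exact .refl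
      | tail _ a ih => exact .head (g.symm a) ih
    set N : Subgroup G := ⨆ γ : {γ // Relation.ReflTransGen adj α γ}, ZZ 𝐒[G, γ.1] with hN
    have h2 : N ≤ 𝐂[N] := iSup_le fun γ => le_centralizer_iff.1 (iSup_le fun δ => by
      obtain ⟨f, n, w, e1, e2⟩ := h1 _ _ ((sy γ.2).trans δ.2)
      rw [← e1, ← e2]; exact k n f w)
    have h3 : ∀ x ∈ N, x * x = 1 := fun x hx => by
      induction hx using iSup_induction' with
      | hp γ x hx => exact msq (g.mod (hnx γ.1)) hx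
      | h1 => exact mul_one 1
      | hmul x y hx hy a b => rw [(mem_C.1 (h2 hy) x hx).mul_mul_mul_comm, a, b, mul_one]
    have h4 : ∀ x : G, Relation.ReflTransGen adj α (x • α) → cj(x, N) ≤ N := fun x hx => by
      rw [hN, cj_iSup]
      refine iSup_le fun γ => ?_
      rw [← ZZ_cj, ← stab_smul]
      exact le_iSup (fun γ : {γ // Relation.ReflTransGen adj α γ} => ZZ 𝐒[G, γ.1])
        ⟨x • γ.1, hx.trans (γ.2.lift (x • ·) fun _ _ a => g.smul x a)⟩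
    obtain ⟨T, a⟩ := g.am h
    have h5 := a.free N (Amb.isPGroup_iff.2 fun x hx => ⟨1, by rw [pow_one, pow_two, h3 x hx]⟩)
      (le_normalizer_iff_cj.2 fun x hx => h4 x (by
      rw [mem_stabilizer_iff.1 hx])) (le_normalizer_iff_cj.2 fun x hx => h4 x (.head h (.single (by
        have := g.smul x (g.symm h); rwa [mem_stabilizer_iff.1 hx] at this))))
    exact a.ZZ_ne (le_bot_iff.1 (h5 ▸ le_iSup (fun γ : {γ // Relation.ReflTransGen adj α γ} => ZZ 𝐒[G, γ.1])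
      ⟨α, .refl⟩))
  obtain ⟨f, w, hn⟩ := Nat.find_spec key
  have hm := fun n => Nat.find_min key (m := n)
  rcases e : Nat.find key with _ | b
  · rw [e] at hn
    exact (hn fun x hx => mem_C.2 fun y hy => mcomm (g.mod (w 0)) hx hy).elim
  · rw [e] at hn hm
    exact ⟨b, f, ⟨g, fun f w n h => by_contra fun k => hm n h ⟨f, w, k⟩⟩, w, hn⟩

namespace Gb

variable (g : Gb G adj b) (w : Wk adj f)
include g w

theorem comm {i j : ℕ} {x y : G} (hx : x ∈ ZZ 𝐒[G, f i]) (hy : y ∈ ZZ 𝐒[G, f j]) (h1 : i < j + b)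
    (h2 : j < i + b) : Commute x y := by
  rcases le_total i j with k | k
  · obtain ⟨n, rfl⟩ := Nat.exists_eq_add_of_le k
    exact (mem_C.1 (g.com _ (w.shift i) n (by omega) hy) x hx).symm
  · obtain ⟨n, rfl⟩ := Nat.exists_eq_add_of_le k
    exact mem_C.1 (g.com _ (w.shift j) n (by omega) hx) y hy

theorem memC {i j : ℕ} {x : G} (hx : x ∈ ZZ 𝐒[G, f i]) (h1 : i < j + b) (h2 : j < i + b) :
    x ∈ 𝐂[ZZ 𝐒[G, f j]] := mem_C.2 fun _ hy => g.comm w hx hy h1 h2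

theorem md (i : ℕ) : Mod 𝐒[G, f i] (ZZ 𝐒[G, f i]) ⊥ := g.mod (w i)

theorem memS {i j : ℕ} {x : G} (hx : x ∈ ZZ 𝐒[G, f i]) (h1 : i ≤ j + b) (h2 : j ≤ i + b) : x ∈ 𝐒[G, f j] := by
  rcases lt_trichotomy i j with k | rfl | k
  · obtain ⟨n, rfl⟩ : ∃ n, j = n + 1 := ⟨j - 1, by omega⟩
    obtain ⟨T, a⟩ := g.am (w n)
    exact a.C_leB (g.memC w hx (by omega) (by omega))
  · exact Amal.sylowCenterClosure_le _ hx
  · obtain ⟨T, a⟩ := g.am (g.symm (w j))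
    exact a.C_leB (g.memC w hx (by omega) (by omega))

end Gb

/-- a critical pair at the ends of a walk of length `b` -/
abbrev St (f : ℕ → V) (i j : ℕ) (K K' : Subgroup G) (w w' r : G) : Prop :=
  Cr 𝐒[G, f i] (ZZ 𝐒[G, f i]) 𝐒[G, f j] (ZZ 𝐒[G, f j]) K K' w w' r

theorem Cr.com {L U L' U' K K' : Subgroup G} {w w' r : G} (h : Cr L U L' U' K K' w w' r) (m' : Mod L' U' ⊥) :
    Commute w' r := mcomm m' (W_le m' h.tv'.blk h.w'_mem) (W_le m' h.tv'.blk h.r_mem')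

namespace Gb

variable (g : Gb G adj (b + 1)) (w : Wk adj f)
include g w

theorem st {i : ℕ} (hn : ¬ ZZ 𝐒[G, f (i + (b + 1))] ≤ 𝐂[ZZ 𝐒[G, f i]]) :
    ∃ K K' u u' r, St (G := G) f i (i + (b + 1)) K K' u u' r :=
  sw (g.md w _) (g.md w _) (fun _ hx => g.memS w hx (by omega) (by omega))
    (fun _ hx => g.memS w hx (by omega) (by omega)) hn

variable {i : ℕ} {K K' : Subgroup G} {u u' r : G} (s : St f i (i + (b + 1)) K K' u u' r)
include s

theorem uZ : u ∈ ZZ 𝐒[G, f i] := W_le (g.md w _) s.tv.blk s.w_mem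
theorem uZ' : u' ∈ ZZ 𝐒[G, f (i + (b + 1))] := W_le (g.md w _) s.tv'.blk s.w'_mem
theorem rZ : r ∈ ZZ 𝐒[G, f i] := W_le (g.md w _) s.tv.blk s.r_mem
theorem rZ' : r ∈ ZZ 𝐒[G, f (i + (b + 1))] := W_le (g.md w _) s.tv'.blk s.r_mem'

theorem ff (a : Am T 𝐒[G, f i] 𝐒[G, f (i + 1)]) : FF T 𝐒[G, f i] 𝐒[G, f (i + 1)] K u' r := by
  refine ⟨a, s.tv, g.memS w (g.uZ' w s) (by omega) (by omega), a.not_le s.tv ?_, s.r_mem, s.r_ne, s.com (g.md w _)⟩
  rcases b with _ | b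
  exacts [Or.inl (g.uZ' w s), Or.inr (g.memC w (g.uZ' w s) (by omega) (by omega))]

theorem ff' (a : Am T 𝐒[G, f (i + (b + 1))] 𝐒[G, f (i + b)]) :
    FF T 𝐒[G, f (i + (b + 1))] 𝐒[G, f (i + b)] K' u r := by
  refine ⟨a, s.tv', g.memS w (g.uZ w s) (by omega) (by omega), a.not_le s.tv' ?_, s.r_mem', s.r_ne,
    s.symm.com (g.md w _)⟩
  rcases b with _ | b
  exacts [Or.inl (g.uZ w s), Or.inr (g.memC w (g.uZ w s) (by omega) (by omega))]

end Gb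

theorem Gr.cover (g : Gr G adj) (w : Wk adj f) {L : Subgroup G}
    (h1 : ∀ x ∈ 𝐒[G, f 0], ∃ l ∈ L ⊓ 𝐒[G, f 0], ∃ y ∈ 𝐒[G, f 1], x = l * y)
    (h2 : ∀ x ∈ 𝐒[G, f 1], ∃ l ∈ L ⊓ 𝐒[G, f 1], ∃ y ∈ 𝐒[G, f 0], x = l * y) (i : ℕ) :
    ∃ l ∈ L, (l • f 0 = f i ∧ l • f 1 = f (i + 1)) ∨ (l • f 1 = f i ∧ l • f 0 = f (i + 1)) := by
  have key : ∀ {α β γ : V} {l : G}, adj α β → (∀ x ∈ 𝐒[G, β], ∃ l ∈ L ⊓ 𝐒[G, β], ∃ y ∈ 𝐒[G, α], x = l * y) →
      l ∈ L → adj (l • β) γ → ∃ l' ∈ L, l' • β = l • β ∧ l' • α = γ := by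
    intro α β γ l a h hl a'
    have a2 := g.smul l⁻¹ a'
    rw [inv_smul_smul] at a2
    obtain ⟨x, hx, e⟩ := g.tr (g.symm a) a2
    obtain ⟨m, hm, y, hy, rfl⟩ := h x hx
    refine ⟨l * m, mul_mem hl hm.1, by rw [mul_smul, mem_stabilizer_iff.1 hm.2], ?_⟩
    rw [mul_smul, mem_stabilizer_iff.1 hy] at e
    rw [mul_smul, e, smul_inv_smul]
  induction i with
  | zero => exact ⟨1, one_mem _, Or.inl ⟨one_smul _ _, one_smul _ _⟩⟩
  | succ i ih =>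
    obtain ⟨l, hl, ⟨-, e⟩ | ⟨-, e⟩⟩ := ih
    · obtain ⟨m, hm, e1, e2⟩ := key (w 0) h2 hl (e ▸ w (i + 1))
      exact ⟨m, hm, Or.inr ⟨e1.trans e, e2⟩⟩
    · obtain ⟨m, hm, e1, e2⟩ := key (g.symm (w 0)) h1 hl (e ▸ w (i + 1))
      exact ⟨m, hm, Or.inl ⟨e1.trans e, e2⟩⟩

/-- the shift of a critical pair -/
theorem Gb.next (g : Gb G adj (b + 2)) (w : Wk adj f) {K K' : Subgroup G} {u u' r x : G}
    (s : St f 0 (0 + (b + 1 + 1)) K K' u u' r) (hx : x ∈ K) (hx' : x ∉ 𝐂[ZZ 𝐒[G, f 0]]) :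
    adj (x • f 1) (f 0) ∧ ¬ ZZ 𝐒[G, f (b + 1)] ≤ 𝐂[ZZ 𝐒[G, x • f 1]] := by
  have a0 : adj (x • f 1) (f 0) := by
    have := g.smul x (g.symm (w 0))
    rwa [mem_stabilizer_iff.1 (s.tv.blk.le hx)] at this
  refine ⟨a0, fun hc => ?_⟩
  obtain ⟨T, a⟩ := g.am (w 0)
  have h := g.ff w s a
  have w' := w.cons a0
  obtain ⟨h1, h2⟩ := h.caseU (fun y hy => g.memC w hy (by omega) (by omega)) hx hx' fun y hy => by
    rw [← ZZ_cj, ← stab_smul] at hy
    obtain ⟨T', a'⟩ := g.am (w (b + 1))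
    have c : Commute y r := g.comm w' (i := 0) (j := 1) hy (g.rZ w s) (by omega) (by omega)
    have m := g.md w (0 + (b + 1 + 1))
    have y1 : y ∈ 𝐒[G, f (0 + (b + 1 + 1))] := by
      rw [zero_add]; exact a'.C_leB (le_centralizer_iff.1 hc hy)
    have i' := inv_sq (msq m (g.uZ' w s))
    rcases cpt m s.tv'.blk (norm_of_fix m s.tv'.blk y1 s.r_mem' s.r_ne c).2 s.r_mem' s.r_ne c s.w'_mem with e | e
    · exact Or.inl (comm_iff.1 (comm_iff.2 e).symm)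
    · right
      calc u' * y * u'⁻¹ = u'⁻¹ * (y * u' * y⁻¹) * y := by rw [i']; group
        _ = y * r := by rw [e, c.eq]; group
  obtain ⟨L, l1, l2, l3, l4, l5, l6⟩ := h.push (h.caseN (g.memC w (g.uZ' w s) (by omega) (by omega)) h1 h2)
  have r1 := (isPRed_omegaZ T).ncl (a.char L l1 l2) (a.syl.mono l1 le_top) le_rfl l1
  have key : ∀ i, ZZ 𝐒[G, f i] ≤ ncl ΩZ[2, T] L := fun i => by
    obtain ⟨l, hl, ⟨e, -⟩ | ⟨e, -⟩⟩ := g.cover w l3 l4 i <;> rw [← e, stab_smul, ZZ_cj]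
    exacts [cj_le_of_mem_normalizer l5 (r1.norm hl), cj_le_of_mem_normalizer l6 (r1.norm hl)]
  have c := comm_iff.1 (mem_C.1 (r1.le_centralizer r1 (key _ (g.uZ' w s))) u (key _ (g.uZ w s)))
  exact s.r_ne (by simpa [c] using s.eq)

theorem Gr.two (g : Gr G adj) (hex : ∀ α, ∃ β, adj α β) {α β : V} (h : adj α β) :
    IsPGroup 2 ↥(𝐒[G, α] ⊓ 𝐒[G, β]) := by
  obtain ⟨b, f, gb, w, hn⟩ := g.exists_b hex h
  obtain ⟨K, K', u, u', r, s⟩ := gb.st w (i := 0) (by rwa [zero_add])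
  obtain ⟨T, a⟩ := g.am (w 0)
  have key : IsPGroup 2 ↥(𝐒[G, f 0] ⊓ 𝐒[G, f 1]) := by
    rcases b with _ | b
    · exact (gb.ff w s a).two_group (gb.ff' w s a.symm)
    · obtain ⟨x, hx, hx'⟩ := Blk_ex s.tv.blk
      obtain ⟨a0, hn'⟩ := gb.next w s hx hx'
      obtain ⟨J, J', v, v', p, s'⟩ := gb.st (w.cons a0) (i := 0) (by rw [zero_add]; exact hn')
      obtain ⟨T', a'⟩ := g.am a0
      have := (gb.ff (w.cons a0) s' a').cj x⁻¹
      rw [← stab_smul, ← stab_smul] at this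
      change FF _ 𝐒[G, x⁻¹ • x • f 1] 𝐒[G, x⁻¹ • f 0] _ _ _ at this
      rw [inv_smul_smul, mem_stabilizer_iff.1 (inv_mem (s.tv.blk.le hx))] at this
      exact (gb.ff w s a).two_group this
  obtain ⟨x, ⟨rfl, rfl⟩ | ⟨rfl, rfl⟩⟩ := g.etr (w 0) h <;> rw [stab_smul, stab_smul, ← cj_inf]
  · exact isPGroup_cj x key
  · rw [inf_comm]; exact isPGroup_cj x key

theorem Am.inf_eq (h : Am T A B) : A ⊓ B = T := by
  have := h.gr.two Amal.exists_adj (Amal.adj_inl_inr 1)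
  rw [Amal.stabilizer_inl_one, Amal.stabilizer_inr_one] at this
  exact h.sylD.eq this h.TD le_rfl

end Cfsg.Agent.QZ
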