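import Mathlib
import Cfsg.Agent.QZ.One

/-! The critical distance is one. -/

set_option autoImplicit false
set_option linter.unusedSectionVars false

namespace Cfsg.Agent.QZ

open Subgroup Cfsg.Agent.PLocal Cfsg.Agent.PLocal.Amb Cfsg.Agent.PLocal.CP Cfsg.Agent.PLocal.JC
open Cfsg.Agent.NG MulAction
open scoped commutatorElement

variable {G : Type*} [Group G] [Finite G] {T A B : Subgroup G}
variable {V : Type*} [MulAction G V] {adj : V → V → Prop} {b : ℕ} {f : ℕ → V}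

/-- `r` is the point on the line of the block `K` of `α` belonging to the neighbour `β` -/
def Pt (α β : V) (K : Subgroup G) (r : G) : Prop := ∃ T t, FF T 𝐒[G, α] 𝐒[G, β] K t r

namespace Pt

variable {α β γ : V} {K K' : Subgroup G} {r r' : G}

theorem smul (h : Pt α β K r) (x : G) : Pt (x • α) (x • β) cj(x, K) (x * r * x⁻¹) := by
  obtain ⟨T, t, h⟩ := h
  exact ⟨_, _, by rw [stab_smul, stab_smul]; exact h.cj x⟩

theorem smul' (h : Pt α β K r) {x : G} {α' β' : V} (e : x • α = α') (e' : x • β = β') (c : Commute x r) :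
    Pt α' β' cj(x, K) r := by
  have := h.smul x
  rwa [e, e', comm_iff.1 c] at this

theorem uniq (h : Pt α β K r) (h' : Pt α β K r') : r = r' := by
  obtain ⟨T, t, h⟩ := h
  obtain ⟨T', t', h'⟩ := h'
  exact h.uniq h'

theorem blk_eq (h : Pt α β K r) (h' : Pt α γ K' r) : K = K' := by
  obtain ⟨T, t, h⟩ := h
  obtain ⟨T', t', h'⟩ := h'
  exact blk_eq' h.mod h.blk h'.blk h.mem h'.mem h.ne

theorem blk (h : Pt α β K r) : BK 𝐒[G, α] K := h.elim fun _ h => h.elim fun _ h => h.blk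
theorem mem (h : Pt α β K r) : r ∈ WW 𝐒[G, α] K := h.elim fun _ h => h.elim fun _ h => h.mem
theorem ne (h : Pt α β K r) : r ≠ 1 := h.elim fun _ h => h.elim fun _ h => h.ne
theorem rZ (h : Pt α β K r) : r ∈ ZZ 𝐒[G, α] := h.elim fun _ h => h.elim fun _ h => h.rZ

variable (h2 : IsPGroup 2 ↥(𝐒[G, α] ⊓ 𝐒[G, β]))
include h2

theorem three {K₁ K₂ K₃ : Subgroup G} {r₁ r₂ r₃ : G} (h₁ : Pt α β K₁ r₁) (h₂ : Pt α β K₂ r₂) (h₃ : Pt α β K₃ r₃) :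
    r₁ = r₂ ∨ r₁ = r₃ ∨ r₂ = r₃ := by
  obtain ⟨T, t, h⟩ := id h₁
  rcases h.blk3 h2 h₁.blk h₂.blk h₃.blk with rfl | rfl | rfl
  exacts [Or.inl (h₁.uniq h₂), Or.inr (Or.inl (h₁.uniq h₃)), Or.inr (Or.inr (h₂.uniq h₃))]

theorem trans (h : Pt α β K r) (h' : Pt α β K' r') : ∃ d : G, d • α = α ∧ d • β = β ∧ d * r * d⁻¹ = r' := by
  obtain ⟨T, t, k⟩ := id h
  obtain ⟨d, hd, rfl⟩ := k.all_blk h2 h'.blk
  have := h.smul d
  rw [mem_stabilizer_iff.1 hd.1, mem_stabilizer_iff.1 hd.2] at this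
  exact ⟨d, hd.1, hd.2, this.uniq h'⟩

end Pt

/-- a chain of shifted critical pairs -/
structure Ch (adj : V → V → Prop) (b n : ℕ) (f : ℕ → V) (K K' : ℕ → Subgroup G) (u u' r x : ℕ → G) : Prop where
  gb : Gb G adj (b + 1 + 1)
  two : ∀ {α β}, adj α β → IsPGroup 2 ↥(𝐒[G, α] ⊓ 𝐒[G, β])
  w : Wk adj f
  st : ∀ i ≤ n, St f i (i + (b + 1 + 1)) (K i) (K' i) (u i) (u' i) (r i)
  xK : ∀ i < n, x (i + 1) ∈ K (i + 1)
  xn : ∀ i < n, x (i + 1) ∉ 𝐂[ZZ 𝐒[G, f (i + 1)]]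
  eq : ∀ i < n, x (i + 1) • f (i + 2) = f i

theorem exists_ch (g : Gb G adj (b + 1 + 1)) (two : ∀ {α β}, adj α β → IsPGroup 2 ↥(𝐒[G, α] ⊓ 𝐒[G, β]))
    (w : Wk adj f) (hn : ¬ ZZ 𝐒[G, f (b + 1 + 1)] ≤ 𝐂[ZZ 𝐒[G, f 0]]) (n : ℕ) :
    ∃ (f : ℕ → V) (K K' : ℕ → Subgroup G) (u u' r x : ℕ → G), Ch adj b n f K K' u u' r x := by
  induction n with
  | zero =>
    obtain ⟨K, K', u, u', r, s⟩ := g.st w (i := 0) (by rwa [zero_add])
    exact ⟨f, fun _ => K, fun _ => K', fun _ => u, fun _ => u', fun _ => r, fun _ => 1, g, two, w,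
      fun i hi => by obtain rfl : i = 0 := by omega
                     exact s,
      fun i hi => by omega, fun i hi => by omega, fun i hi => by omega⟩
  | succ n ih =>
    obtain ⟨f, K, K', u, u', r, x, c⟩ := ih
    have s := c.st 0 (by omega)
    obtain ⟨y, hy, hy'⟩ := Blk_ex s.tv.blk
    obtain ⟨a0, hn'⟩ := g.next c.w s hy hy'
    obtain ⟨J, J', v, v', p, s'⟩ := g.st (c.w.cons a0) (i := 0) (by rw [zero_add]; exact hn')
    refine ⟨cons (y • f 1) f, cons J K, cons J' K', cons v u, cons v' u', cons p r, cons 1 (cons y fun i => x (i + 1)),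
      g, two, c.w.cons a0, fun i hi => ?_, fun i hi => ?_, fun i hi => ?_, fun i hi => ?_⟩
    · rcases i with _ | i
      · exact s'
      · have := c.st i (by omega)
        rw [show i + 1 + (b + 1 + 1) = i + (b + 1 + 1) + 1 by omega]
        exact this
    all_goals rcases i with _ | i
    exacts [hy, c.xK i (by omega), hy', c.xn i (by omega), rfl, c.eq i (by omega)]

namespace Ch

variable {n : ℕ} {K K' : ℕ → Subgroup G} {u u' r x : ℕ → G} (c : Ch adj b n f K K' u u' r x)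
include c

theorem md (i : ℕ) : Mod 𝐒[G, f i] (ZZ 𝐒[G, f i]) ⊥ := c.gb.md c.w i
theorem uZ (i : ℕ) (h : i ≤ n := by omega) : u i ∈ ZZ 𝐒[G, f i] := c.gb.uZ c.w (c.st i h)
theorem uZ' (i : ℕ) (h : i ≤ n := by omega) : u' i ∈ ZZ 𝐒[G, f (i + (b + 1 + 1))] := c.gb.uZ' c.w (c.st i h)
theorem rZ (i : ℕ) (h : i ≤ n := by omega) : r i ∈ ZZ 𝐒[G, f i] := c.gb.rZ c.w (c.st i h)
theorem rZ' (i : ℕ) (h : i ≤ n := by omega) : r i ∈ ZZ 𝐒[G, f (i + (b + 1 + 1))] := c.gb.rZ' c.w (c.st i h)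

theorem comm {i j : ℕ} {y z : G} (hy : y ∈ ZZ 𝐒[G, f i]) (hz : z ∈ ZZ 𝐒[G, f j]) (h1 : i < j + (b + 1 + 1) := by omega)
    (h2 : j < i + (b + 1 + 1) := by omega) : Commute y z := c.gb.comm c.w hy hz h1 h2

theorem memS {i : ℕ} {y : G} (hy : y ∈ ZZ 𝐒[G, f i]) (j : ℕ) (h1 : i ≤ j + (b + 1 + 1) := by omega)
    (h2 : j ≤ i + (b + 1 + 1) := by omega) : y ∈ 𝐒[G, f j] := c.gb.memS c.w hy h1 h2

theorem CS {α β : V} (a : adj α β) {y : G} (hy : y ∈ 𝐂[ZZ 𝐒[G, α]]) : y • β = β :=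
  (c.gb.am a).elim fun _ a => a.C_leB hy

theorem p0 (i : ℕ) (h : i ≤ n := by omega) : Pt (f i) (f (i + 1)) (K i) (r i) :=
  (c.gb.am (c.w i)).elim fun _ a => ⟨_, _, c.gb.ff c.w (c.st i h) a⟩

theorem p0' (i : ℕ) (h : i ≤ n := by omega) : Pt (f (i + (b + 1 + 1))) (f (i + (b + 1))) (K' i) (r i) :=
  (c.gb.am (c.gb.symm (c.w (i + (b + 1))))).elim fun _ a => ⟨_, _, c.gb.ff' c.w (c.st i h) a⟩

theorem nc (i : ℕ) (h : i ≤ n := by omega) : ¬ Commute (u' i) (u i) := fun e =>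
  (c.st i h).r_ne (by simpa [comm_iff.1 e] using (c.st i h).eq)

theorem xS (i : ℕ) (h : i < n := by omega) : x (i + 1) • f (i + 1) = f (i + 1) := (c.p0 (i + 1)).blk.le (c.xK i h)

theorem exy (i : ℕ) (h : i < n := by omega) : ∃ y ∈ K (i + 1), y ∉ 𝐂[ZZ 𝐒[G, f (i + 1)]] ∧ y • f i = f (i + 2) ∧
    y • f (i + 1) = f (i + 1) ∧ y * u' (i + 1) ∈ 𝐂[ZZ 𝐒[G, f i]] ∧
    ∀ s ∈ ZZ 𝐒[G, f i], Commute (u' (i + 1)) s → Commute y s := by
  obtain ⟨y1, y2, y3⟩ := tv_gen (c.md _) (c.st (i + 1) h).tv (c.xK i h) (c.xn i h)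
  have y4 : x (i + 1) * u' (i + 1) * (x (i + 1))⁻¹ * (u' (i + 1))⁻¹ * u' (i + 1) ∈ 𝐂[ZZ 𝐒[G, f i]] := by
    rw [inv_mul_cancel_right, ← c.eq i h, stab_smul, ZZ_cj, centralizer_cj]
    exact conj_mem_cj _ (c.gb.memC c.w (c.uZ' (i + 1)) (by omega) (by omega))
  refine ⟨_, y1, y2, ?_, (c.p0 (i + 1)).blk.le y1, y4, fun s hs e => ?_⟩
  · rw [← c.eq i h, ← mul_smul]; exact c.CS (c.w (i + 1)) y3
  · simpa using (mem_C.1 y4 s hs).mul_left e.inv_left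

theorem p1 (i : ℕ) (h : i < n := by omega) : ∃ J, Pt (f (i + 2)) (f (i + 1)) J (r i) := by
  obtain ⟨y, -, -, e1, e2, -, k⟩ := c.exy i
  exact ⟨_, (c.p0 i).smul' e1 e2 (k _ (c.rZ i) (c.comm (c.uZ' (i + 1)) (c.rZ' i)))⟩

theorem n1 (i : ℕ) (h : i < n := by omega) : r i ≠ r (i + 1) := fun e => by
  obtain ⟨y, y1, y2, -, -, -, k⟩ := c.exy i
  exact y2 (K_fix (c.md _) (c.p0 (i + 1)).blk y1 (c.p0 (i + 1)).mem (c.p0 (i + 1)).ne
    (e ▸ k _ (c.rZ i) (c.comm (c.uZ' (i + 1)) (c.rZ' i))))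

theorem px (i : ℕ) (h : i < n := by omega) :
    ∃ p, Pt (f (i + 1)) (f i) (K (i + 1)) p ∧ ¬ Commute (u' (i + 1)) p := by
  have p := (c.p0 (i + 1)).smul (x (i + 1))
  rw [c.xS i, c.eq i h, cj_of_mem (c.xK i h)] at p
  refine ⟨_, p, fun e => ?_⟩
  have s := c.st (i + 1) h
  rcases tv_uniq (c.md _) s.tv s.r_mem s.r_ne (s.com (c.md _)) p.mem e with e | e
  · exact p.ne e
  · exact c.xn i h (K_fix (c.md _) s.tv.blk (c.xK i h) s.r_mem s.r_ne (comm_iff.2 e))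

theorem p2 (i : ℕ) (hb : 1 ≤ b := by omega) (h : i + 1 < n := by omega) : ∃ J, J ≠ K (i + 2) ∧
    Pt (f (i + 2)) (f (i + 1)) J (r i) ∧ Pt (f (i + 2)) (f (i + 3)) J (r i) := by
  obtain ⟨J, hJ⟩ := c.p1 i
  obtain ⟨p, hp, k⟩ := c.px (i + 1)
  have hne : J ≠ K (i + 2) := by
    rintro rfl
    exact k (hJ.uniq hp ▸ c.comm (c.uZ' (i + 2)) (c.rZ' i))
  have hx := inv_mem (c.xK (i + 1) h)
  have := hJ.smul' (inv_smul_eq_iff.2 (c.xS (i + 1)).symm) (inv_smul_eq_iff.2 (c.eq (i + 1) h).symm)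
    (K_comm (c.md _) hp.blk hJ.blk hne.symm hx hJ.mem)
  rw [cj_eq_iff.2 (K_norm (c.md _) hJ.blk hp.blk hx)] at this
  exact ⟨J, hne, hJ, this⟩

theorem n2 (i : ℕ) (hb : 1 ≤ b := by omega) (h : i + 1 < n := by omega) : r i ≠ r (i + 2) := fun e => by
  obtain ⟨J, hne, hJ, -⟩ := c.p2 i
  exact hne (hJ.blk_eq (e ▸ c.p0 (i + 2)))

end Ch

theorem Ch.not_two {K K' : ℕ → Subgroup G} {u u' r x : ℕ → G} (c : Ch adj 0 4 f K K' u u' r x) : False := by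
  obtain ⟨y, y1, y2, e1, e2, y3, k⟩ := c.exy 0
  have s0 := c.st 0 (by omega)
  have s1 := c.st 1 (by omega)
  have cr : Commute (u' 1) (r 0) := c.comm (c.uZ' 1) (c.rZ' 0)
  have cy := k _ (c.rZ 0) cr
  have e3 := ((c.p0 0).smul' e1 e2 cy).blk_eq (c.p0' 0)
  have m1 : y * u 0 * y⁻¹ ∈ WW 𝐒[G, f (0 + (0 + 1 + 1))] (K' 0) := by
    rw [← e3, ← show y • f 0 = f (0 + (0 + 1 + 1)) from e1, stab_smul, WW_cj]; exact conj_mem_cj _ s0.w_mem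
  have u1 : u 0 ≠ 1 := fun e => c.nc 0 (by omega) (e ▸ Commute.one_right _)
  have u2 : u 0 ≠ r 0 := fun e => c.nc 0 (by omega) (e ▸ s0.com (c.md _))
  have e4 := tv_W (c.md _) s0.tv' s0.r_mem' s0.r_ne (s0.symm.com (c.md _)) m1 (cj_ne_one u1) fun e =>
    u2 (by rw [← comm_iff.1 cy] at e; simpa using e)
  have e5 := comm_iff.1 (mem_C.1 y3 _ (c.uZ 0))
  have a2 := msq (c.md _) (c.uZ 0)
  have t2 := msq (c.md _) (c.uZ' 1)
  have cu : Commute (u 0) (r 0) := mcomm (c.md _) (c.uZ 0) (c.rZ 0)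
  have sC : u 0 * u' 1 * (u 0)⁻¹ ∈ 𝐂[ZZ 𝐒[G, f 2]] := Amb.conj_mem_of_mem_normalizer
    (normC (c.md 2) (c.memS (c.uZ 0) 2)) (c.gb.memC c.w (c.uZ' 1) (by omega) (by omega))
  have cs : Commute (u 0 * u' 1 * (u 0)⁻¹) (r 1) :=
    ((c.comm (c.uZ 0) (c.rZ 1)).mul_left (s1.com (c.md _))).mul_left (c.comm (c.uZ 0) (c.rZ 1)).inv_left
  have h1 := cpt (c.md _) s1.tv'.blk (norm_of_fix (c.md _) s1.tv'.blk (c.CS (c.w 2) sC) s1.r_mem' s1.r_ne cs).2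
    s1.r_mem' s1.r_ne cs s1.w'_mem
  set a := u 0
  set t := u' 1
  have e6 : t * a * t⁻¹ = y⁻¹ * a * y :=
    calc _ = y⁻¹ * (y * t * a * (y * t)⁻¹) * y := by group
      _ = _ := by rw [e5]
  have e7 : (t * a * t⁻¹) * a * (t * a * t⁻¹)⁻¹ = a * r 0 := by
    rw [e6]
    calc _ = y⁻¹ * (a * (y * a * y⁻¹) * a⁻¹) * y := by group
      _ = a * (y⁻¹ * r 0 * y⁻¹⁻¹) := by rw [e4]; group
      _ = _ := by rw [comm_iff.1 cy.inv_left]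
  have e8 : a * t * a⁻¹ * t * (a * t * a⁻¹)⁻¹ = t * r 0 := by
    have i1 := inv_sq a2
    have i2 := inv_sq t2
    calc _ = t⁻¹⁻¹ * (t⁻¹ * a * t) * a⁻¹ * (t * a * t⁻¹) * a⁻¹ := by group
      _ = t * ((t * a * t⁻¹) * a * (t * a * t⁻¹)⁻¹) * a⁻¹ := by
        simp only [mul_inv_rev, i1, i2, mul_assoc]
      _ = t * (a * r 0 * a⁻¹) := by rw [e7]; group
      _ = _ := by rw [comm_iff.1 cu]
  rw [e8] at h1
  rcases h1 with h1 | h1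
  · exact s0.r_ne (by simpa using h1)
  · exact c.n1 0 (by omega) (mul_left_cancel h1)

theorem Ch.not_three {K K' : ℕ → Subgroup G} {u u' r x : ℕ → G} (c : Ch adj 1 4 f K K' u u' r x) : False := by
  obtain ⟨J, -, -, hJ⟩ := c.p2 0
  obtain ⟨d, d1, d2, e⟩ := hJ.trans (c.two (c.w 2)) (c.p0 2)
  obtain ⟨J', hJ'⟩ := c.p1 1
  have p := (c.p0' 0).smul d
  rw [e, show d • f (0 + (1 + 1 + 1)) = f 3 from d2, show d • f (0 + (1 + 1)) = f 2 from d1] at p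
  rcases Pt.three (c.two (c.gb.symm (c.w 2))) (c.p0' 0) hJ' p with k | k | k
  exacts [c.n1 0 (by omega) k, c.n2 0 (by omega) (by omega) k, c.n1 1 (by omega) k]

/-- all neighbours of `α` have the same points towards `α` -/
def PZ (G : Type*) [Group G] [MulAction G V] (adj : V → V → Prop) (α : V) : Prop :=
  ∀ (β γ : V) (K : Subgroup G) (p : G), adj α β → adj α γ → Pt β α K p → ∃ K', Pt γ α K' p

theorem PZ.smul (g : Gr G adj) {α : V} (h : PZ G adj α) (x : G) : PZ G adj (x • α) := fun β γ K p a a' k => by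
  have k' := k.smul x⁻¹
  have a1 := g.smul x⁻¹ a
  have a2 := g.smul x⁻¹ a'
  rw [inv_smul_smul] at k' a1 a2
  obtain ⟨J, hJ⟩ := h _ _ _ _ a1 a2 k'
  have := hJ.smul x
  rw [smul_inv_smul, show x * (x⁻¹ * p * x⁻¹⁻¹) * x⁻¹ = p by group] at this
  exact ⟨_, this⟩

namespace Ch

variable {K K' : ℕ → Subgroup G} {u u' r x : ℕ → G} (c : Ch adj (b + 2) 4 f K K' u u' r x)
include c

theorem pz₀ (i : ℕ) (h : i < 2) : PZ G adj (f (i + 3)) := by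
  obtain ⟨y, y1, y2, -, -, -, k⟩ := c.exy (i + 2)
  obtain ⟨J, -, -, hJ⟩ := c.p2 i
  obtain ⟨p, ⟨T, t, hp⟩, -⟩ := c.px (i + 2)
  set S : Set G := {p | ∃ J, Pt (f (i + 2)) (f (i + 3)) J p}
  have h1 : ∀ s ∈ S, Commute y s := by
    rintro s ⟨J', hs⟩
    rcases Pt.three (c.two (c.w (i + 2))) hJ (c.p0 (i + 2)) hs with e | rfl | rfl
    · exact absurd e (c.n2 i)
    · exact k _ hJ.rZ (c.comm (c.uZ' (i + 3)) (c.rZ' i))
    · exact k _ (c.rZ (i + 2)) (c.comm (c.uZ' (i + 3)) (c.rZ' (i + 2)))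
  have h2 : y ∈ normalizer S := mem_set_normalizer_iff.2 fun s =>
    ⟨fun hs => by rwa [comm_iff.1 (h1 s hs)], fun hs => by
      have := comm_iff.1 (h1 _ hs).inv_left
      rwa [← this, show y⁻¹ * (y * s * y⁻¹) * y⁻¹⁻¹ = s by group] at hs⟩
  have h3 : ∀ d ∈ 𝐒[G, f (i + 3)] ⊓ 𝐒[G, f (i + 2)], ∀ s ∈ S, d * s * d⁻¹ ∈ S := by
    rintro d hd s ⟨J', hs⟩
    have := hs.smul d
    rw [mem_stabilizer_iff.1 hd.1, mem_stabilizer_iff.1 hd.2] at this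
    exact ⟨_, this⟩
  have h4 := hp.am.eq_of (X := 𝐒[G, f (i + 3)] ⊓ normalizer S) (le_inf inf_le_left fun d hd =>
    mem_set_normalizer_iff.2 fun s => ⟨h3 d hd s, fun hs => by simpa [mul_assoc] using h3 _ (inv_mem hd) _ hs⟩)
    inf_le_left fun e => y2 (hp.K_B y1 (e ⟨hp.blk.le y1, h2⟩))
  intro β γ L q a a' hq
  obtain ⟨g, hg, rfl⟩ := c.gb.tr (c.gb.symm (c.w (i + 2))) a
  obtain ⟨g', hg', rfl⟩ := c.gb.tr (c.gb.symm (c.w (i + 2))) a'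
  have h5 := hq.smul g⁻¹
  rw [inv_smul_smul, mem_stabilizer_iff.1 (inv_mem hg)] at h5
  obtain ⟨L', h6⟩ := (mem_set_normalizer_iff.1 (h4.ge (mul_mem (inv_mem hg') hg)).2 _).1 ⟨_, h5⟩
  have h7 := h6.smul g'
  rw [mem_stabilizer_iff.1 hg', show g' * (g'⁻¹ * g * (g⁻¹ * q * g⁻¹⁻¹) * (g'⁻¹ * g)⁻¹) * g'⁻¹ = q by group] at h7
  exact ⟨_, h7⟩

theorem pz (i : ℕ) : PZ G adj (f i) := by
  obtain ⟨g, ⟨e, -⟩ | ⟨-, e⟩⟩ := c.gb.etr (c.w 3) (c.w i) <;> rw [← e]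
  exacts [(c.pz₀ 0 (by omega)).smul c.gb.toGr g, (c.pz₀ 1 (by omega)).smul c.gb.toGr g]

theorem not_five (hb : 1 ≤ b) : False := by
  obtain ⟨J, -, -, hJ⟩ := c.p2 0
  obtain ⟨M, hM⟩ := c.pz 3 _ _ _ _ (c.gb.symm (c.w 2)) (c.w 3) hJ
  obtain ⟨J', hne, hJ', -⟩ := c.p2 2
  obtain ⟨p, hp, k⟩ := c.px 3
  rcases Pt.three (c.two (c.gb.symm (c.w 3))) hM hJ' hp with e | e | e
  · exact c.n2 0 (by omega) (by omega) e
  · exact k (e ▸ c.comm (c.uZ' 4) (c.rZ' 0))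
  · exact hne (hJ'.blk_eq (e ▸ hp))

end Ch

theorem Ch.not_four {K K' : ℕ → Subgroup G} {u u' r x : ℕ → G} (c : Ch adj (0 + 2) 4 f K K' u u' r x) : False := by
  have s1 : St f 1 5 _ _ _ _ _ := c.st 1 (by omega)
  have s2 : St f 2 6 _ _ _ _ _ := c.st 2 (by omega)
  have s4 : St f 4 8 _ _ _ _ _ := c.st 4 (by omega)
  have q1 : Pt (f 5) (f 4) (K' 1) (r 1) := c.p0' 1
  have q2 : Pt (f 6) (f 5) (K' 2) (r 2) := c.p0' 2
  obtain ⟨Jc, ⟨T, t, hJ⟩⟩ : ∃ J, Pt (f 5) (f 4) J (r 3) := c.p1 3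
  have hne : K' 1 ≠ Jc := fun e => c.n2 1 (by omega) (by omega) (q1.uniq ⟨_, _, e ▸ hJ⟩)
  obtain ⟨J', hJ'⟩ := c.pz 6 _ _ _ _ (c.w 6) (c.gb.symm (c.w 5)) (c.p0' 3)
  obtain rfl := hJ'.blk_eq ⟨_, _, hJ⟩
  obtain ⟨T', t', hJ'⟩ := hJ'
  obtain ⟨g, hg, e⟩ := c.gb.tr (c.gb.symm (c.w 4)) (c.w 5)
  obtain ⟨j, hj, d, hd, rfl⟩ := hJ.nbr (c.two (c.gb.symm (c.w 4))) q1.blk hne hg (T' := T') (t' := t')
    (by rw [← stab_smul, e]; exact hJ')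
  rw [mul_smul, mem_stabilizer_iff.1 hd] at e
  have j5 : j • f 5 = f 5 := q1.blk.le hj
  have jn : j ∉ 𝐂[ZZ 𝐒[G, f 5]] := fun k => by
    rw [c.CS (c.gb.symm (c.w 4)) k] at e
    exact c.nc 4 (by omega) (c.comm (c.uZ' 4) (j := 5 + 1) (e ▸ c.uZ 4))
  obtain ⟨M, hM⟩ := c.pz 5 _ _ _ _ (c.gb.symm (c.w 4)) (c.w 5) (c.p0 4)
  have hM' : K' 2 ≠ M := fun e => c.n2 2 (by omega) (by omega) (q2.uniq (e ▸ hM))
  have tZ := c.uZ 1
  have t2 := inv_sq (msq (c.md _) tZ)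
  have h1 : ∀ a ∈ WW 𝐒[G, f 6] M, u 1 * a * (u 1)⁻¹ ∈ WW 𝐒[G, f 6] M ⊔ ZZ 𝐒[G, f 5] := fun a ha => by
    have aZ := W_le (c.md 6) hM.blk ha
    have c1 : Commute a (r 2) := mcomm (c.md 6) aZ q2.rZ
    have c2 : Commute a (u 2) := (tv_comm (c.md 6) s2.tv' hM.blk hM' ha).symm
    have k1 := comm_K (c.md 2) s2.tv.blk (norm_of_fix (c.md 2) s2.tv.blk (c.memS aZ 2) s2.r_mem s2.r_ne c1).1
      (fun w hw => by
        rcases W_cases (c.md 2) s2.tv.blk s2.r_mem s2.w_mem s2.r_ne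
          (fun e => c.nc 2 (by omega) (e ▸ Commute.one_right _))
          (fun e => c.nc 2 (by omega) (e ▸ s2.com (c.md _))) hw with rfl | rfl | rfl | rfl
        exacts [Commute.one_right _, c1, c2, c2.mul_right c1]) (c.xK 1 (by omega))
    have k2 : a ∈ 𝐒[G, f 1] := by
      have e1 : x 2 • f 3 = f 1 := c.eq 1 (by omega)
      have e2 := c.CS (c.gb.symm (c.w 1)) k1
      rw [mul_smul, inv_smul_eq_iff.2 e1.symm, mul_smul, mem_stabilizer_iff.1 (inv_mem (c.memS aZ 3)), mul_smul,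
        e1] at e2
      exact e2
    have c3 : Commute a (r 1) := c.comm aZ q1.rZ
    rcases cpt (c.md 1) s1.tv.blk (norm_of_fix (c.md 1) s1.tv.blk k2 s1.r_mem s1.r_ne c3).2 s1.r_mem s1.r_ne c3
      s1.w_mem with e | e
    · rw [comm_iff.1 (comm_iff.2 e).symm]; exact mem_sup_left ha
    · have : u 1 * a * (u 1)⁻¹ = r 1 * a := by
        calc _ = (u 1)⁻¹ * (a * u 1 * a⁻¹) * a := by rw [t2]; group
          _ = _ := by rw [e]; group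
      rw [this]; exact mul_mem (mem_sup_right q1.rZ) (mem_sup_left ha)
  have t5 : u 1 ∈ 𝐒[G, f 5] := s1.tv'.mem
  have h2 : u 1 ∈ 𝐍[WW 𝐒[G, f 6] M ⊔ ZZ 𝐒[G, f 5]] := mem_normalizer_of_cj_le (by
    rw [cj_sup, cj_eq_iff.2 ((c.md 5).normU t5)]
    exact sup_le (cj_le_iff_forall.2 h1) le_sup_right)
  have c4 : Commute (u 1) (r 4) := c.comm tZ (c.rZ 4)
  have v5 : j * u 1 * j⁻¹ ∈ 𝐒[G, f 5] := mul_mem (mul_mem j5 t5) (inv_mem (show j ∈ 𝐒[G, f 5] from j5))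
  have v6 : j * u 1 * j⁻¹ ∈ 𝐒[G, f 6] := by
    rw [← show j • f 4 = f 6 from e, stab_smul]; exact conj_mem_cj _ (c.memS tZ 4)
  have p := (c.p0 4).smul j
  rw [show j • f 4 = f 6 from e, show j • f (4 + 1) = f 5 from j5] at p
  obtain ⟨T₁, t₁, hM₁⟩ := id hM
  have v7 : j * u 1 * j⁻¹ ∈ 𝐍[M] := by
    have n1 := cj_eq_iff.2 (norm_of_fix (c.md 6) p.blk v6 p.mem p.ne (comm_cj c4 j)).1
    rcases hM₁.blk3 (c.two (c.gb.symm (c.w 5))) hM.blk p.blk (hM₁.am.bcj hM.blk v6).1 with k | k | k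
    · rw [k]; exact cj_eq_iff.1 n1
    · exact cj_eq_iff.1 k.symm
    · rw [← n1, cj_inj] at k
      rw [← k]; exact cj_eq_iff.1 n1
  have c5 := hM₁.fixpt v6 v5 v7
  obtain ⟨y1, -, y3⟩ := tv_gen (c.md 5) s1.tv' hj jn
  have h3 : j * u 1 * j⁻¹ * (u 1)⁻¹ ∈ 𝐍[WW 𝐒[G, f 6] M ⊔ ZZ 𝐒[G, f 5]] :=
    mul_mem (Amb.le_normalizer_sup (L := zpowers _) (zpowers_le.2 (normW (c.md 6) hM.blk v6 v7))
      (zpowers_le.2 ((c.md 5).normU v5)) (mem_zpowers _)) (inv_mem h2)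
  have e6 : (j * u 1 * j⁻¹ * (u 1)⁻¹) • f 6 = f 4 := by
    rw [← show j • f 4 = f 6 from e, ← mul_smul]; exact c.CS (c.gb.symm (c.w 4)) y3
  have e7 := (hM.smul' e6 (q1.blk.le y1) (c5.mul_left c4.inv_left)).blk_eq (c.p0 4)
  have h4 : u 4 ∈ WW 𝐒[G, f 6] M ⊔ ZZ 𝐒[G, f 5] := by
    have := s4.w_mem
    rw [← e7, ← e6, stab_smul] at this
    exact cj_le_of_mem_normalizer le_sup_left h3 ((WW_cj _ _ _).le this)
  have h5 : WW 𝐒[G, f 6] M ⊔ ZZ 𝐒[G, f 5] ≤ 𝐂₁[u' 4] := sup_le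
    (fun a ha => mem_C₁.2 (c.comm (W_le (c.md 6) hM.blk ha) (c.uZ' 4))) fun a ha => mem_C₁.2 (c.comm ha (c.uZ' 4))
  exact c.nc 4 (by omega) (mem_C₁.1 (h5 h4)).symm

theorem Gr.not_comm (g : Gr G adj) (hex : ∀ α, ∃ β, adj α β) {α β : V} (h : adj α β) :
    ¬ ZZ 𝐒[G, β] ≤ 𝐂[ZZ 𝐒[G, α]] := by
  obtain ⟨b, f, gb, w, hn⟩ := g.exists_b hex h
  rcases b with _ | b
  · obtain ⟨x, ⟨rfl, rfl⟩ | ⟨rfl, rfl⟩⟩ := g.etr (w 0) h <;>
      rw [stab_smul, stab_smul, ZZ_cj, ZZ_cj, centralizer_cj, cj_le_cj_iff]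
    exacts [hn, fun e => hn (le_centralizer_iff.1 e)]
  · obtain ⟨f, K, K', u, u', r, x, c⟩ := exists_ch gb (g.two hex) w hn 4
    rcases b with _ | _ | _ | b
    exacts [c.not_two.elim, c.not_three.elim, c.not_four.elim, (c.not_five (by omega)).elim]

theorem Am.not_comm (h : Am T A B) : ¬ ZZ B ≤ 𝐂[ZZ A] := by
  have := h.gr.not_comm Amal.exists_adj (Amal.adj_inl_inr 1)
  rwa [Amal.stabilizer_inl_one, Amal.stabilizer_inr_one] at this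

end Cfsg.Agent.QZ
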